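import Cfsg.Agent.SmallOrder.Local
import Cfsg.Agent.SmallOrder.Basic

/-!
# Normal subgroups of order prime to eleven in groups whose order divides 95040
-/

set_option autoImplicit false

namespace Cfsg.Agent.M12Graph

open Cfsg.Agent

theorem pp_dvd {q k : ℕ} (hq : q.Prime) (h : q ^ k ∣ 8640) :
    q ^ k ∣ 64 ∨ q ^ k ∣ 27 ∨ q ^ k ∣ 5 := by
  rcases Nat.eq_zero_or_pos k with rfl | hk
  · simp
  have h' : q ∣ 2 ^ 6 * 3 ^ 3 * 5 := (dvd_pow_self q hk.ne').trans h
  have hco : ∀ {p : ℕ}, p.Prime → q ≠ p → Nat.Coprime (q ^ k) p := fun {p} hp hne =>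
    Nat.Coprime.pow_left k ((Nat.coprime_primes hq hp).2 hne)
  rcases (Nat.Prime.dvd_mul hq).1 h' with h1 | h1
  · rcases (Nat.Prime.dvd_mul hq).1 h1 with h2 | h2
    · obtain rfl := (Nat.prime_dvd_prime_iff_eq hq Nat.prime_two).1 (hq.dvd_of_dvd_pow h2)
      left
      exact ((hco Nat.prime_three (by norm_num)).pow_right 3).dvd_of_dvd_mul_right
        ((hco Nat.prime_five (by norm_num)).dvd_of_dvd_mul_right
          (show 2 ^ k ∣ 64 * 3 ^ 3 * 5 from h))
    · obtain rfl := (Nat.prime_dvd_prime_iff_eq hq Nat.prime_three).1 (hq.dvd_of_dvd_pow h2)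
      right; left
      exact ((hco Nat.prime_two (by norm_num)).pow_right 6).dvd_of_dvd_mul_left
        ((hco Nat.prime_five (by norm_num)).dvd_of_dvd_mul_right
          (show 3 ^ k ∣ 2 ^ 6 * 27 * 5 from h))
  · obtain rfl := (Nat.prime_dvd_prime_iff_eq hq Nat.prime_five).1 h1
    right; right
    exact Nat.Coprime.dvd_of_dvd_mul_left
      (Nat.Coprime.pow_left k (by norm_num : Nat.Coprime 5 (2 ^ 6 * 3 ^ 3))) (show 5 ^ k ∣ 2 ^ 6 * 3 ^ 3 * 5 from h)

set_option synthInstance.maxSize 4000 in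
theorem congr_pp : ∀ D, D ∈ Nat.divisors 64 ∪ Nat.divisors 27 ∪ Nat.divisors 5 →
    ∀ d ∈ Nat.divisors D, d % 11 = D % 11 → d = D := by
  decide +kernel

theorem sylow_eleven_card {G : Type*} [Group G] [Finite G] [Fact (Nat.Prime 11)]
    (hG : Nat.card G ∣ 95040) (h11 : 11 ∣ Nat.card G) (P : Sylow 11 G) :
    Nat.card (P : Subgroup G) = 11 := by
  obtain ⟨m, hm⟩ := h11
  have hm' : ¬ 11 ∣ m := fun ⟨j, hj⟩ => by
    have : 121 ∣ 95040 := (Dvd.intro j (by rw [hm, hj]; ring)).trans hG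
    norm_num at this
  rw [SmallOrder.card_sylow_eq_pow (p := 11) (a := 1) (by rw [pow_one]; exact hm) hm' P, pow_one]

/-- The elements of order eleven centralise every normal subgroup of order prime to eleven. -/
theorem centralizes {G : Type*} [Group G] [Finite G] (hG : Nat.card G ∣ 95040) (N : Subgroup G)
    [N.Normal] (hN : ¬ 11 ∣ Nat.card N) {g : G} (hg : orderOf g = 11) :
    ∀ n ∈ N, g * n = n * g := by
  classical
  have hf : Fact (Nat.Prime 11) := ⟨by norm_num⟩
  have h11 : 11 ∣ Nat.card G := hg ▸ orderOf_dvd_natCard g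
  obtain ⟨C, hC⟩ : ∃ C, C = Subgroup.centralizer ({g} : Set G) ⊓ N := ⟨_, rfl⟩
  suffices hdvd : Nat.card N ∣ Nat.card C by
    intro n hn
    have he : C = N := Subgroup.eq_of_le_of_card_ge (hC ▸ inf_le_right)
      (Nat.le_of_dvd Nat.card_pos hdvd)
    rw [← he, hC] at hn
    exact (Subgroup.mem_centralizer_singleton_iff.1 hn.1).symm
  rw [Nat.dvd_iff_prime_pow_dvd_dvd]
  intro q k hq hk
  haveI : Fact q.Prime := ⟨hq⟩
  obtain ⟨Q⟩ : Nonempty (Sylow q N) := inferInstance
  obtain ⟨R, hR⟩ : ∃ R, R = (Q : Subgroup N).map N.subtype := ⟨_, rfl⟩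
  have hRN : R ≤ N := hR ▸ Subgroup.map_subtype_le _
  have hRc : Nat.card R = q ^ (Nat.card N).factorization q := by
    rw [hR, Subgroup.card_map_of_injective N.subtype_injective, Q.card_eq_multiplicity]
  have hkR : q ^ k ∣ Nat.card R :=
    hRc ▸ pow_dvd_pow q ((hq.pow_dvd_iff_le_factorization Nat.card_pos.ne').1 hk)
  have hF : Subgroup.normalizer (R : Set G) ⊔ N = ⊤ := hR ▸ Sylow.normalizer_sup_eq_top Q
  have hidx : N.index ∣ Nat.card (Subgroup.normalizer (R : Set G)) := by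
    have h := Subgroup.relIndex_sup_right (H := Subgroup.normalizer (R : Set G)) (K := N)
    rw [hF, Subgroup.relIndex_top_right] at h
    rw [h]
    exact Subgroup.relIndex_dvd_card N _
  have h11A : 11 ∣ Nat.card (Subgroup.normalizer (R : Set G)) := by
    refine dvd_trans ?_ hidx
    rw [← Subgroup.card_mul_index N] at h11
    exact (hf.out.dvd_mul.1 h11).resolve_left hN
  obtain ⟨⟨x, hxA⟩, hx⟩ := exists_prime_orderOf_dvd_card' 11 h11A
  replace hx : orderOf x = 11 := (Subgroup.orderOf_coe ⟨x, hxA⟩).trans hx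
  have hxR : x ∈ Subgroup.centralizer (R : Set G) := by
    refine SmallOrder.mem_centralizer_of_order hxA hx fun d hd hmod => ?_
    have hD : Nat.card R ∣ 8640 := by
      have hco : Nat.Coprime (Nat.card R) 11 := ((hf.out.coprime_iff_not_dvd).2 fun h =>
        hN (h.trans (Subgroup.card_dvd_of_le hRN))).symm
      exact hco.dvd_of_dvd_mul_left ((Subgroup.card_subgroup_dvd_card R).trans hG :
        Nat.card R ∣ 11 * 8640)
    rw [hRc] at hd hmod hD ⊢
    refine congr_pp _ ?_ d (Nat.mem_divisors.2 ⟨hd, pow_ne_zero _ hq.ne_zero⟩) hmod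
    rcases pp_dvd hq hD with h | h | h <;> simp only [Finset.mem_union, Nat.mem_divisors] <;>
      simp [h]
  -- conjugate `x` into the Sylow subgroup containing `g`
  have hsyl : ∀ y : G, orderOf y = 11 → ∃ P : Sylow 11 G, (P : Subgroup G) = Subgroup.zpowers y := by
    intro y hy
    obtain ⟨P, hP⟩ := (IsPGroup.of_card (p := 11) (n := 1)
      (by rw [Nat.card_zpowers, hy, pow_one]) : IsPGroup 11 (Subgroup.zpowers y)).exists_le_sylow
    exact ⟨P, (Subgroup.eq_of_le_of_card_ge hP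
      (by rw [sylow_eleven_card hG h11 P, Nat.card_zpowers, hy])).symm⟩
  obtain ⟨Pg, hPg⟩ := hsyl g hg
  obtain ⟨Px, hPx⟩ := hsyl x hx
  obtain ⟨a, ha⟩ := MulAction.exists_smul_eq G Px Pg
  have hgP : g ∈ (Pg : Subgroup G) := hPg ▸ Subgroup.mem_zpowers g
  rw [← ha, Sylow.coe_subgroup_smul] at hgP
  obtain ⟨y, hy, hya⟩ := hgP
  obtain ⟨i, hi⟩ := Subgroup.mem_zpowers_iff.1 (show y ∈ Subgroup.zpowers x from hPx ▸ hy)
  refine hkR.trans ?_
  have hca : Function.Injective (MulAut.conj a).toMonoidHom := (MulAut.conj a).injective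
  rw [← Subgroup.card_map_of_injective (K := R) hca]
  refine Subgroup.card_dvd_of_le ?_
  rintro _ ⟨r, hr, rfl⟩
  rw [hC]
  refine ⟨Subgroup.mem_centralizer_singleton_iff.2 ?_, Subgroup.Normal.conj_mem inferInstance r (hRN hr) a⟩
  have hry : Commute r y := hi ▸
    (show Commute r x from Subgroup.mem_centralizer_iff.1 hxR r hr).zpow_right i
  rw [← hya]
  show MulAut.conj a r * MulAut.conj a y = MulAut.conj a y * MulAut.conj a r
  rw [← map_mul, hry.eq, map_mul]

end Cfsg.Agent.M12Graph
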