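import Cfsg.Agent.Fg24.M12.Basic
import Cfsg.Agent.SmallOrder.Parity
import Mathlib.GroupTheory.SpecificGroups.Dihedral

/-!
# The values at an involution inverting an element of order eleven
-/

set_option autoImplicit false

namespace Cfsg.Agent.M12Graph

open scoped ComplexConjugate
open Cfsg.Agent

universe u

variable {G : Type u} [Group G]

theorem zpow_inverted {z t : G} (htz : t * z * t⁻¹ = z⁻¹) (i : ℤ) : t * z ^ i * t⁻¹ = z ^ (-i) := by
  rw [← conj_zpow, htz, inv_zpow, zpow_neg]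

theorem pow_mul_inv {z t : G} (ht : t * t = 1) (htz : t * z * t⁻¹ = z⁻¹) (n : ℕ) :
    z ^ n * t = t * (z ^ n)⁻¹ := by
  have h := zpow_inverted htz (n : ℤ)
  rw [zpow_natCast, zpow_neg, zpow_natCast] at h
  rw [← h, inv_eq_of_mul_eq_one_left ht, ← mul_assoc, ← mul_assoc, ht, one_mul]

/-- The homomorphism of the dihedral group given by an inverting involution. -/
theorem exists_dihedral {z t : G} (hz : orderOf z = 11) (ht : t * t = 1)
    (htz : t * z * t⁻¹ = z⁻¹) :
    ∃ f : DihedralGroup 11 →* G, (∀ i : ZMod 11, f (.r i) = z ^ i.val) ∧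
      ∀ i : ZMod 11, f (.sr i) = t * z ^ i.val := by
  have hadd : ∀ a b : ZMod 11, z ^ (a + b).val = z ^ a.val * z ^ b.val := fun a b => by
    rw [ZMod.val_add, ← pow_add]
    exact pow_eq_pow_iff_modEq.2 (by rw [hz]; exact Nat.mod_modEq _ _)
  have hneg : ∀ a : ZMod 11, z ^ (-a).val = (z ^ a.val)⁻¹ := fun a => by
    refine eq_inv_of_mul_eq_one_left ?_
    rw [← hadd, neg_add_cancel, ZMod.val_zero, pow_zero]
  have hsub : ∀ a b : ZMod 11, z ^ (b - a).val = (z ^ a.val)⁻¹ * z ^ b.val := fun a b => by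
    rw [← hneg, ← hadd, neg_add_eq_sub]
  have hswap := pow_mul_inv ht htz
  refine ⟨MonoidHom.mk' (fun x => match x with
    | .r i => z ^ i.val
    | .sr i => t * z ^ i.val) ?_, fun i => rfl, fun i => rfl⟩
  rintro (a | a) (b | b)
  · exact hadd a b
  · show t * z ^ (b - a).val = z ^ a.val * (t * z ^ b.val)
    rw [hsub, ← mul_assoc, ← hswap, mul_assoc]
  · show t * z ^ (a + b).val = t * z ^ a.val * z ^ b.val
    rw [hadd, mul_assoc]
  · show z ^ (b - a).val = t * z ^ a.val * (t * z ^ b.val)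
    rw [hsub, mul_assoc t, ← mul_assoc (z ^ a.val), hswap, ← mul_assoc, ← mul_assoc, ht, one_mul]

/-- The sign on the dihedral group. -/
theorem exists_sign : ∃ f : DihedralGroup 11 →* ℂˣ,
    (∀ i : ZMod 11, f (.r i) = 1) ∧ ∀ i : ZMod 11, f (.sr i) = -1 := by
  refine ⟨MonoidHom.mk' (fun x => match x with
    | .r _ => 1
    | .sr _ => -1) ?_, fun i => rfl, fun i => rfl⟩
  rintro (a | a) (b | b)
  · exact (one_mul (1 : ℂˣ)).symm
  · exact (one_mul (-1 : ℂˣ)).symm
  · exact (mul_one (-1 : ℂˣ)).symm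
  · show (1 : ℂˣ) = (-1) * (-1)
    rw [neg_mul_neg, one_mul]

theorem sum_dihedral (F : DihedralGroup 11 → ℂ) :
    ∑ x, F x = (∑ i, F (.r i)) + ∑ i, F (.sr i) := by
  let eq : ZMod 11 ⊕ ZMod 11 ≃ DihedralGroup 11 :=
    { toFun := Sum.elim .r .sr
      invFun := fun x => match x with
        | .r i => Sum.inl i
        | .sr i => Sum.inr i
      left_inv := by rintro (i | i) <;> rfl
      right_inv := by rintro (i | i) <;> rfl }
  rw [← Equiv.sum_comp eq, Fintype.sum_sum_type]
  rfl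

/-- The value at an inverting involution is the difference of two natural numbers with the
multiplicity of the fixed space of the cyclic group as sum. -/
theorem inverted_bound {χ : G → ℂ} (hχ : Cfsg.IsCharacter G χ) {z t : G} (hz : orderOf z = 11)
    (ht : orderOf t = 2) (htz : t * z * t⁻¹ = z⁻¹) {d : ℕ} (hd : χ 1 = d) {σ : ℂ} {v : ℤ}
    (hσ : ∀ i : ℕ, ¬ 11 ∣ i → χ (z ^ i) = σ) (hv : χ t = v) :
    ∃ a b : ℕ, (d : ℂ) + 10 * σ = 11 * ((a : ℂ) + b) ∧ v = a - b := by
  classical
  have htt : t * t = 1 := by rw [← pow_two, ← ht, pow_orderOf_eq_one]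
  obtain ⟨f, hfr, hfs⟩ := exists_dihedral hz htt htz
  obtain ⟨ε, hεr, hεs⟩ := exists_sign
  have hcomp := Char.isCharacter_comp f hχ
  obtain ⟨a, ha⟩ := Char.classInner_isCharacter_eq_natCast hcomp Char.isCharacter_one
  obtain ⟨b, hb⟩ := Char.classInner_isCharacter_eq_natCast hcomp (Char.isCharacter_hom ε)
  have hflip : ∀ i : ℕ, χ (t * z ^ i) = v := by
    intro i
    rw [← hv]
    refine (Char.classFun_isConj (Char.isClassFunction_of_isCharacter hχ)
      (isConj_iff.2 ⟨z ^ (5 * i), ?_⟩)).symm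
    rw [pow_mul_inv htt htz, mul_assoc, ← mul_inv_rev, ← pow_add, mul_left_cancel_iff]
    refine (eq_inv_of_mul_eq_one_left ?_).symm
    rw [← pow_add, ← orderOf_dvd_iff_pow_eq_one, hz]
    omega
  have hr : ∑ i : ZMod 11, χ (f (.r i)) = (d : ℂ) + 10 * σ := by
    rw [← Finset.add_sum_erase _ _ (Finset.mem_univ (0 : ZMod 11)), hfr, ZMod.val_zero, pow_zero,
      hd, Finset.sum_congr rfl fun i hi => by
        rw [hfr, hσ i.val fun h => (Finset.mem_erase.1 hi).1 ((ZMod.val_eq_zero i).1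
          (Nat.eq_zero_of_dvd_of_lt h (ZMod.val_lt i)))],
      Finset.sum_const, Finset.card_erase_of_mem (Finset.mem_univ _), Finset.card_univ, ZMod.card,
      nsmul_eq_mul]
    norm_num
  have hs : ∑ i : ZMod 11, χ (f (.sr i)) = 11 * (v : ℂ) := by
    rw [Finset.sum_congr rfl fun i _ => by rw [hfs, hflip], Finset.sum_const, Finset.card_univ,
      ZMod.card, nsmul_eq_mul]
    norm_num
  have hcard : (Nat.card (DihedralGroup 11) : ℂ) = 22 := by
    rw [DihedralGroup.nat_card]; norm_num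
  simp only [Cfsg.classInner, hcard, map_one, mul_one] at ha
  rw [sum_dihedral, hr, hs] at ha
  simp only [Cfsg.classInner, hcard] at hb
  rw [sum_dihedral] at hb
  simp only [hεr, hεs, Units.val_neg, Units.val_one, map_neg, map_one, mul_one, mul_neg,
    Finset.sum_neg_distrib, hr, hs] at hb
  refine ⟨a, b, ?_, ?_⟩
  · linear_combination (11 : ℂ) * ha + (11 : ℂ) * hb
  · have : (v : ℂ) = (((a : ℤ) - b : ℤ) : ℂ) := by
      push_cast; linear_combination ha - hb
    exact_mod_cast this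

end Cfsg.Agent.M12Graph
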