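import Cfsg.Agent.Fg24.M12.Degrees
import Cfsg.Agent.Compute.Mathieu
import Cfsg.Prelude.Def_DegreeGraph

/-!
# The degrees 55 and 66 of the Mathieu group of degree twelve and the degree graph
-/

set_option autoImplicit false

namespace Cfsg.Agent.M12Graph

open Cfsg.Agent

theorem m12_degrees : 55 ∈ Cfsg.charDegrees ↥Cfsg.Spor.M12 ∧
    66 ∈ Cfsg.charDegrees ↥Cfsg.Spor.M12 := by
  classical
  haveI := Compute.isSimpleGroup_m12
  letI := Fintype.ofFinite ↥Cfsg.Spor.M12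
  obtain ⟨C⟩ := Fg24.M12.exists_ctx Compute.card_m12
  haveI : Fact (Nat.Prime 5) := ⟨Nat.prime_five⟩
  obtain ⟨t, ht⟩ := exists_prime_orderOf_dvd_card' (G := ↥Cfsg.Spor.M12) 5
    (by rw [Compute.card_m12]; norm_num)
  obtain ⟨a, b, -, -, -, -, -, -, -, -, -, h55, h66⟩ := Fg24.M12.degrees_ext C ht
  exact ⟨h55, h66⟩

/-- Two degrees in a group with the degree graph of the Mathieu group of degree twelve. -/
theorem exists_degrees {G : Type*} [Group G]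
    (hΔ : Cfsg.degreeGraph G = Cfsg.degreeGraph ↥Cfsg.Spor.M12) :
    (∃ χ : Cfsg.IrrCharacter G, 55 ∣ Cfsg.charDegree (χ : G → ℂ)) ∧
      ∃ χ : Cfsg.IrrCharacter G, 33 ∣ Cfsg.charDegree (χ : G → ℂ) := by
  obtain ⟨h55, h66⟩ := m12_degrees
  constructor
  · have h : (Cfsg.degreeGraph G).Adj 5 11 := hΔ ▸
      ⟨by norm_num, by norm_num, by norm_num, 55, h55, by norm_num⟩
    obtain ⟨-, -, -, d, ⟨χ, rfl⟩, hd⟩ := h
    exact ⟨χ, hd⟩
  · have h : (Cfsg.degreeGraph G).Adj 3 11 := hΔ ▸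
      ⟨by norm_num, by norm_num, by norm_num, 66, h66, by norm_num⟩
    obtain ⟨-, -, -, d, ⟨χ, rfl⟩, hd⟩ := h
    exact ⟨χ, hd⟩

end Cfsg.Agent.M12Graph
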