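import Cfsg.Agent.M12Graph.Chars
import Cfsg.Agent.Fg24.M12.Eleven
import Cfsg.Agent.Fg24.M12.Five
import Cfsg.Agent.SmallOrder.PrimeTest
import Cfsg.Agent.S0840

/-!
# Automizers of order two or ten of a Sylow 11-subgroup in simple groups of order dividing 95040
-/

set_option autoImplicit false
set_option linter.unusedSectionVars false

namespace Cfsg.Agent.M12Graph

open scoped ComplexConjugate
open Cfsg.Agent Cfsg.Agent.Blocks

universe u

theorem sum_four {ι : Type*} (B : Finset ι) (g : ι → ℤ) (p q r s : ℤ)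
    (h : ∀ i ∈ B, g i = p ∨ g i = q ∨ g i = r ∨ g i = s) :
    ∃ a b c d : ℕ, a + b + c + d = B.card ∧
      ∀ f : ℤ → ℤ, ∑ i ∈ B, f (g i) = a * f p + b * f q + c * f r + d * f s := by
  classical
  induction B using Finset.induction with
  | empty => exact ⟨0, 0, 0, 0, by simp, fun f => by simp⟩
  | insert i B hi ih =>
    obtain ⟨a, b, c, d, hc, hf⟩ := ih fun j hj => h j (Finset.mem_insert_of_mem hj)
    rw [Finset.card_insert_of_notMem hi, ← hc]
    simp only [Finset.sum_insert hi, hf]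
    rcases h i (Finset.mem_insert_self i B) with e | e | e | e
    · exact ⟨a + 1, b, c, d, by omega, fun f => by rw [e]; push_cast; ring⟩
    · exact ⟨a, b + 1, c, d, by omega, fun f => by rw [e]; push_cast; ring⟩
    · exact ⟨a, b, c + 1, d, by omega, fun f => by rw [e]; push_cast; ring⟩
    · exact ⟨a, b, c, d + 1, by omega, fun f => by rw [e]; push_cast; ring⟩

set_option synthInstance.maxSize 4000 in
theorem degrees_31680 : ∀ d : ℕ, d < 178 → d ∣ 2880 → 22 ≤ d →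
    (d % 11 = 1 ∨ d % 11 = 10) → d = 32 ∨ d = 45 ∨ d = 120 ∨ d = 144 := by
  decide +kernel

set_option synthInstance.maxSize 4000 in
theorem degrees_15840 : ∀ d : ℕ, d < 126 → d ∣ 1440 → d ≠ 1 →
    (d % 11 = 1 ∨ d % 11 = 10) → d = 10 ∨ d = 12 ∨ d = 32 ∨ d = 45 ∨ d = 120 := by
  decide +kernel

variable {G : Type u} [Group G] [Fintype G]

theorem deg_data [IsSimpleGroup G] (hna : ¬ IsMulCommutative G) {χ : Cfsg.IrrCharacter G}
    (hne : χ ≠ triv G) : 1 < Cfsg.charDegree (χ : G → ℂ) ∧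
      Cfsg.charDegree (χ : G → ℂ) * Cfsg.charDegree (χ : G → ℂ) < Nat.card G :=
  let h := SmallOrder.degree_facts hna χ fun e => hne (Subtype.ext e)
  ⟨h.1, h.2.1⟩

theorem sum_sq_deg : ∑ χ : Cfsg.IrrCharacter G, (Fg24.M12.dg χ : ℤ) * (Fg24.M12.dg χ : ℤ) =
    (Nat.card G : ℤ) := by
  have h3 := Char.sum_sq_degree (G := G)
  simp only [Fg24.M12.value_one] at h3
  rw [← @Int.cast_inj ℂ]
  push_cast
  simpa only [sq] using h3

variable [Fact (Nat.Prime 11)] {P : Sylow 11 G} {e : ℕ} (hS : BlockThms.OrderP.Setup P e)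
include hS

theorem inverts {t z : G} (ht : t ∈ Subgroup.normalizer (P : Set G)) (ht2 : orderOf t = 2)
    (htC : t ∉ Subgroup.centralizer (P : Set G)) (hz : z ∈ (P : Subgroup G))
    (hzo : orderOf z = 11) : t * z * t⁻¹ = z⁻¹ := by
  have hz1 : z ≠ 1 := fun e => by rw [e, orderOf_one] at hzo; omega
  obtain ⟨r, hr⟩ := BlockThms.OrderP.orderOf_dvd_sub_one hS ht hz hz1
  have htt : t * t = 1 := by rw [← pow_two, ← ht2, pow_orderOf_eq_one]
  have h2 : z ^ (r * r) = z ^ 1 := by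
    rw [pow_mul, ← hr, conj_pow, ← hr, pow_one]
    calc t * (t * z * t⁻¹) * t⁻¹ = t * t * z * (t * t)⁻¹ := by group
      _ = z := by rw [htt, one_mul, inv_one, mul_one]
  rw [pow_eq_pow_iff_modEq, hzo, Nat.ModEq, Nat.mul_mod] at h2
  have hcases : ∀ a : ℕ, a < 11 → a * a % 11 = 1 % 11 → a = 1 ∨ a = 10 := by decide +kernel
  rcases hcases _ (Nat.mod_lt _ (by norm_num)) h2 with h | h
  · exfalso
    rw [← pow_mod_orderOf, hzo, h, pow_one, mul_inv_eq_iff_eq_mul] at hr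
    refine htC ?_
    rw [← hS.centralizer_eq hz hz1]
    exact Subgroup.mem_centralizer_singleton_iff.2 hr
  · rw [hr, ← pow_mod_orderOf, hzo, h]
    refine eq_inv_of_mul_eq_one_left ?_
    rw [← pow_succ, show 10 + 1 = orderOf z by rw [hzo], pow_orderOf_eq_one]

omit hS in
/-- The congruence of degree and value of a member with a sign at an involution centralising the
Sylow subgroup. -/
theorem step [IsSimpleGroup G] (hna : ¬ IsMulCommutative G) {z w : G} (hzo : orderOf z = 11)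
    (hzw : Commute z w) (hw : orderOf w = 2) {χ : Cfsg.IrrCharacter G} (hne : χ ≠ triv G) {a : ℤ}
    (ha : (χ : G → ℂ) (z * w) = a) (hda : (Fg24.M12.dg χ : ℤ) ≡ a [ZMOD 11]) :
    ∃ v : ℤ, (χ : G → ℂ) w = v ∧ (44 : ℤ) ∣ (Fg24.M12.dg χ : ℤ) - v ∧ 22 ≤ Fg24.M12.dg χ := by
  obtain ⟨v, k, hv, hk, hvk, hle, -⟩ := S1022.value_data (p := 11) (by norm_num) χ
    (fun e => hne (Subtype.ext e)) hzw hzo hw a ha hda
  have h4 := SmallOrder.four_dvd_degree_sub_apply hna (Char.IsIrr.isCharacter χ.2) hw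
    (Fg24.M12.value_one χ) hv
  simp only [Fg24.M12.dg] at h4 ⊢
  rw [hvk] at h4
  obtain ⟨j, hj⟩ := h4
  push_cast at hj
  refine ⟨v, hv, ⟨(k / 2 : ℕ), ?_⟩, ?_⟩
  · rw [hvk]; push_cast; omega
  · omega

/-- The automizer is not of order two. -/
theorem not_two [IsSimpleGroup G] (hna : ¬ IsMulCommutative G) (hG : Nat.card G ∣ 95040)
    (he : e = 2) : False := by
  classical
  subst he
  obtain ⟨M, hM⟩ := Blocks.exists_isPModular 11 (Fact.out : Nat.Prime 11)
  obtain ⟨X, Y, a, s, hdisj, hXc, hYc, hmem, hs, hX, hY, -, hrel⟩ := hS.principal_structure hM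
  obtain ⟨z, hz, hz1, hzo⟩ := hS.exists_gen
  have htX : triv G ∈ X := by
    refine ((hmem _).1 (triv_mem_principalBlock hM)).resolve_right fun h => ?_
    have h1 := Int.ModEq.eq (hY _ h)
    rw [show Cfsg.charDegree ((triv G : Cfsg.IrrCharacter G) : G → ℂ) = 1 from
      Fg24.M12.dg_triv] at h1
    rcases hs with rfl | rfl <;> norm_num at h1
  obtain ⟨χ, hχ⟩ := Finset.card_eq_one.1 (show (X.erase (triv G)).card = 1 by
    rw [Finset.card_erase_of_mem htX, hXc])
  obtain ⟨hχne, hχX⟩ := Finset.mem_erase.1 (hχ.symm ▸ Finset.mem_singleton_self χ :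
    χ ∈ X.erase (triv G))
  obtain ⟨θ, hθ⟩ : Y.Nonempty := Finset.card_pos.1 (by rw [hYc]; norm_num)
  have h8640 : ∀ ψ : Cfsg.IrrCharacter G, ψ ∈ Cfsg.principalBlock M G → Fg24.M12.dg ψ ∣ 8640 :=
    fun ψ hψ => (((Fact.out : Nat.Prime 11).coprime_iff_not_dvd.2
      (hS.not_dvd_degree hM hψ)).symm).dvd_of_dvd_mul_left
      (show _ ∣ 11 * 8640 from
        (Char.IsIrr.degree_dvd_card ψ.2 (Fg24.M12.value_one ψ)).trans hG)
  have hdθ := h8640 θ ((hmem θ).2 (Or.inr hθ))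
  have hdχ := h8640 χ ((hmem χ).2 (Or.inl hχX))
  obtain ⟨ha, hda, hval⟩ := hX χ hχX
  obtain ⟨hd1, hdd⟩ := deg_data hna hχne
  have hlt : Fg24.M12.dg χ < 309 := by
    by_contra h
    push Not at h
    have h1 := Nat.mul_le_mul h h
    have h2 := Nat.le_of_dvd (by norm_num) hG
    simp only [Fg24.M12.dg] at h1
    omega
  have h3 : s * (Fg24.M12.dg θ : ℤ) + (1 + a χ * (Fg24.M12.dg χ : ℤ)) = 0 := by
    have h1 := hrel θ hθ 1 (by rw [orderOf_one]; norm_num)
    simp only [Fg24.M12.value_one] at h1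
    have h2 : s * (Fg24.M12.dg θ : ℤ) + ∑ ψ ∈ X, a ψ * (Fg24.M12.dg ψ : ℤ) = 0 := by
      exact_mod_cast h1
    rw [← Finset.add_sum_erase _ _ htX, hχ, Finset.sum_singleton, Fg24.M12.dg_triv] at h2
    have hta : a (triv G) = 1 := by
      obtain ⟨ha', hda', -⟩ := hX _ htX
      have h1 := Int.ModEq.eq hda'
      rw [show Cfsg.charDegree ((triv G : Cfsg.IrrCharacter G) : G → ℂ) = 1 from
        Fg24.M12.dg_triv] at h1
      rcases ha' with e | e <;> rw [e] at h1 ⊢ <;> norm_num at h1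
    rw [hta] at h2
    simpa using h2
  have hθ0 : 0 < Fg24.M12.dg θ := charDegree_pos θ.2
  have h4 := Int.ModEq.eq hda
  simp only [Fg24.M12.dg] at h3 hdθ hdχ hlt hθ0
  obtain ⟨d, hd⟩ : ∃ d, d = Cfsg.charDegree (χ : G → ℂ) := ⟨_, rfl⟩
  rw [← hd] at h3 hdχ hlt h4 hd1
  obtain ⟨y, hy⟩ : ∃ y, y = Cfsg.charDegree (θ : G → ℂ) := ⟨_, rfl⟩
  rw [← hy] at h3 hdθ hθ0
  have hmod : d % 11 = 1 ∨ d % 11 = 10 := by
    rcases ha with ha | ha <;> rw [ha] at h4 <;> norm_num at h4 <;> omega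
  obtain ⟨hp1, hp2⟩ := Fg24.M12.pair_two d hlt hdχ hmod (by omega)
  obtain ⟨had, hd10⟩ : a χ = -1 ∧ d = 10 := by
    rcases ha with ha | ha <;> rw [ha] at h3 h4 <;> norm_num at h4
    · have hy' : y = d + 1 := by rcases hs with rfl | rfl <;> omega
      exact absurd (hy' ▸ hdθ) fun h => hp1 (by omega) h
    · have hy' : y = d - 1 := by rcases hs with rfl | rfl <;> omega
      have := hp2 (by omega) (hy' ▸ hdθ)
      exact ⟨ha, by omega⟩
  have hvz : ∀ g ∈ Subgroup.centralizer (P : Set G), ¬ 11 ∣ orderOf g → ∀ i : ℕ, ¬ 11 ∣ i →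
      (χ : G → ℂ) (z ^ i * g) = (a χ : ℂ) := fun g hg hg11 i hi =>
    hval (z ^ i) (pow_mem hz i) (fun e => hi (hzo ▸ orderOf_dvd_of_pow_eq_one e)) g hg hg11
  haveI : Fact (Nat.Prime 2) := ⟨Nat.prime_two⟩
  by_cases h2C : 2 ∣ Nat.card (Subgroup.centralizer (P : Set G))
  · obtain ⟨⟨w, hwC⟩, hw⟩ := exists_prime_orderOf_dvd_card'
      (G := Subgroup.centralizer (P : Set G)) 2 h2C
    rw [Subgroup.orderOf_mk] at hw
    have := hvz w hwC (by rw [hw]; norm_num) 1 (by norm_num)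
    rw [pow_one] at this
    obtain ⟨v, -, -, h22⟩ := step hna hzo (Subgroup.mem_centralizer_iff.1 hwC z hz) hw hχne this hda
    simp only [Fg24.M12.dg] at h22
    omega
  · obtain ⟨⟨t, htN⟩, ht⟩ := exists_prime_orderOf_dvd_card'
      (G := Subgroup.normalizer (P : Set G)) 2 (by rw [hS.card_normalizer]; exact dvd_mul_right 2 _)
    rw [Subgroup.orderOf_mk] at ht
    have htC : t ∉ Subgroup.centralizer (P : Set G) := fun h =>
      h2C (ht ▸ Subgroup.orderOf_dvd_natCard _ h)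
    have hχc := Char.IsIrr.isCharacter χ.2
    obtain ⟨v, hv⟩ := SmallOrder.exists_int_apply_involution hχc ht
    obtain ⟨m, n, hmn, hvmn⟩ := inverted_bound hχc hzo ht (inverts hS htN ht htC hz hzo)
      (Fg24.M12.value_one χ) (σ := -1) (fun i hi => by
        have := hvz 1 (one_mem _) (by rw [orderOf_one]; norm_num) i hi
        rw [mul_one, had] at this
        simpa using this) hv
    simp only [Fg24.M12.dg, ← hd, hd10] at hmn
    norm_num at hmn
    have hmn' : m + n = 0 := by exact_mod_cast hmn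
    have h4' := SmallOrder.four_dvd_degree_sub_apply hna hχc ht (Fg24.M12.value_one χ) hv
    simp only [Fg24.M12.dg, ← hd, hd10] at h4'
    omega

/-- All nontrivial elements of the Sylow subgroup are conjugate when the automizer has order ten. -/
theorem cf_pow (he : e = 10) {z : G} (hz : z ∈ (P : Subgroup G)) (hzo : orderOf z = 11)
    (χ : Cfsg.IrrCharacter G) {i : ℕ} (hi : ¬ 11 ∣ i) : (χ : G → ℂ) (z ^ i) = (χ : G → ℂ) z := by
  obtain ⟨-, U, hU, hUc, -, hconj⟩ := hS.exists_unitSet hz hzo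
  have hiU : (i : ZMod 11) ∈ U := by
    have hsub : U ⊆ Finset.univ.erase 0 := fun u hu =>
      Finset.mem_erase.2 ⟨hU.ne_zero u hu, Finset.mem_univ u⟩
    rw [Finset.eq_of_subset_of_card_le hsub (by simp [hUc, he])]
    exact Finset.mem_erase.2 ⟨fun h => hi ((ZMod.natCast_eq_zero_iff i 11).1 h), Finset.mem_univ _⟩
  obtain ⟨c, hc⟩ := hconj _ hiU 1
  rw [mul_one, BlockThms.OrderP.pw_natCast hzo, show (1 : ZMod 11) = ((1 : ℕ) : ZMod 11) from
    Nat.cast_one.symm, BlockThms.OrderP.pw_natCast hzo, pow_one] at hc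
  exact (Char.classFun_isConj (Char.isClassFunction_of_isIrr χ.2) (isConj_iff.2 ⟨c, hc⟩)).symm

/-- The principal block with an automizer of order ten. -/
theorem ten_block [IsSimpleGroup G] (hna : ¬ IsMulCommutative G) (he : e = 10) :
    ∃ B : Finset (Cfsg.IrrCharacter G), B.card = 11 ∧ triv G ∈ B ∧
      (∀ χ ∈ B, Fg24.M12.dg χ % 11 = 1 ∨ Fg24.M12.dg χ % 11 = 10) ∧
      ∑ χ ∈ B, Fg24.M12.sd χ = 0 ∧
      ∀ w ∈ Subgroup.centralizer (P : Set G), orderOf w = 2 →
        ∀ χ ∈ B, χ ≠ triv G → 22 ≤ Fg24.M12.dg χ := by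
  classical
  subst he
  obtain ⟨M, hM⟩ := Blocks.exists_isPModular 11 (Fact.out : Nat.Prime 11)
  obtain ⟨X, Y, a, s, hdisj, hXc, hYc, hmem, hs, hX, hY, -, hrel⟩ := hS.principal_structure hM
  obtain ⟨θ, hθY⟩ := Finset.card_eq_one.1 (show Y.card = 1 by rw [hYc])
  have hθ : θ ∈ Y := hθY ▸ Finset.mem_singleton_self θ
  have hθX : θ ∉ X := fun h => Finset.disjoint_left.1 hdisj h hθ
  -- the sign of each member
  obtain ⟨σ, hσX, hσθ⟩ : ∃ σ : Cfsg.IrrCharacter G → ℤ, (∀ χ ∈ X, σ χ = a χ) ∧ σ θ = s :=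
    ⟨fun χ => if χ ∈ X then a χ else s, fun χ h => if_pos h, if_neg hθX⟩
  have hsd : ∀ χ ∈ insert θ X, (σ χ = 1 ∨ σ χ = -1) ∧ (Fg24.M12.dg χ : ℤ) % 11 = σ χ % 11 := by
    intro χ hχ
    rcases Finset.mem_insert.1 hχ with rfl | h
    · rw [hσθ]
      refine ⟨hs, ?_⟩
      have h1 := Int.ModEq.eq (hY χ hθ)
      simp only [Fg24.M12.dg]
      rcases hs with rfl | rfl <;> norm_num at h1 ⊢ <;> omega
    · rw [hσX χ h]
      exact ⟨(hX χ h).1, Int.ModEq.eq (hX χ h).2.1⟩
  have hrel' : ∀ g : G, ¬ 11 ∣ orderOf g →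
      ∑ χ ∈ insert θ X, (σ χ : ℂ) * (χ : G → ℂ) g = 0 := fun g hg => by
    rw [Finset.sum_insert hθX, hσθ, Finset.sum_congr rfl fun χ hχ => by rw [hσX χ hχ]]
    exact hrel θ hθ g hg
  have hmod : ∀ χ ∈ insert θ X, Fg24.M12.dg χ % 11 = 1 ∨ Fg24.M12.dg χ % 11 = 10 := fun χ hχ => by
    obtain ⟨h1, h2⟩ := hsd χ hχ
    rcases h1 with h1 | h1 <;> rw [h1] at h2 <;> omega
  have hsum0 : ∑ χ ∈ insert θ X, σ χ * (Fg24.M12.dg χ : ℤ) = 0 := by
    have h1 := hrel' 1 (by rw [orderOf_one]; norm_num)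
    simp only [Fg24.M12.value_one] at h1
    exact_mod_cast h1
  refine ⟨insert θ X, by rw [Finset.card_insert_of_notMem hθX, hXc], ?_, hmod, ?_, ?_⟩
  · rcases (hmem _).1 (triv_mem_principalBlock hM) with h | h
    · exact Finset.mem_insert_of_mem h
    · rw [hθY, Finset.mem_singleton] at h
      rw [h]; exact Finset.mem_insert_self _ _
  · rw [← hsum0]
    refine Finset.sum_congr rfl fun χ hχ => ?_
    obtain ⟨h1, h2⟩ := hsd χ hχ
    rw [Fg24.M12.sd]
    rcases h1 with h1 | h1 <;> rw [h1] at h2 ⊢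
    · rw [if_pos (by omega)]; ring
    · rw [if_neg (by omega)]; ring
  · intro w hwC hw χ hχ hne
    obtain ⟨z, hz, hz1, hzo⟩ := hS.exists_gen
    have hzw : Commute z w := Subgroup.mem_centralizer_iff.1 hwC z hz
    have hw11 : ¬ 11 ∣ orderOf w := by rw [hw]; norm_num
    rcases Finset.mem_insert.1 hχ with rfl | h
    swap
    · obtain ⟨v, -, -, h22⟩ := step hna hzo hzw hw hne ((hX χ h).2.2 z hz hz1 w hwC hw11)
        (hX χ h).2.1
      exact h22
    -- the remaining member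
    obtain ⟨v, hv⟩ : ∃ v : Cfsg.IrrCharacter G → ℤ,
        ∀ ψ : Cfsg.IrrCharacter G, (ψ : G → ℂ) w = v ψ :=
      ⟨fun ψ => (SmallOrder.exists_int_apply_involution (Char.IsIrr.isCharacter ψ.2) hw).choose,
        fun ψ => (SmallOrder.exists_int_apply_involution (Char.IsIrr.isCharacter ψ.2) hw).choose_spec⟩
    have hsumv : ∑ ψ ∈ insert χ X, σ ψ * v ψ = 0 := by
      have h1 := hrel' w hw11
      simp only [hv] at h1
      exact_mod_cast h1
    have hdiff : (44 : ℤ) ∣ ∑ ψ ∈ X, σ ψ * ((Fg24.M12.dg ψ : ℤ) - v ψ) := by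
      refine Finset.dvd_sum fun ψ hψ => Dvd.dvd.mul_left ?_ _
      by_cases hψt : ψ = triv G
      · have h1 : v ψ = 1 := by
          have := hv ψ; rw [hψt, Fg24.M12.triv_apply] at this
          rw [hψt]; exact_mod_cast this.symm
        rw [h1, hψt, Fg24.M12.dg_triv]; norm_num
      · obtain ⟨u, hu, h44, -⟩ := step hna hzo hzw hw hψt ((hX ψ hψ).2.2 z hz hz1 w hwC hw11)
          (hX ψ hψ).2.1
        rwa [show v ψ = u by exact_mod_cast (hv ψ).symm.trans hu]
    rw [Finset.sum_insert hθX] at hsumv hsum0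
    simp only [mul_sub, Finset.sum_sub_distrib] at hdiff
    obtain ⟨u, hu, -, hlo, hhi, -, hstrict⟩ := S4429.inv_value hna χ hw
    obtain ⟨hs1, hs2⟩ := hstrict fun e => hne (Subtype.ext e)
    have huv : v χ = u := by exact_mod_cast (hv χ).symm.trans hu
    obtain ⟨j, hj⟩ := hdiff
    simp only [Fg24.M12.dg] at hsum0 hj ⊢
    rcases (hsd χ (Finset.mem_insert_self _ _)).1 with h1 | h1 <;> rw [h1] at hsum0 hsumv <;> omega

theorem not_ten_two [IsSimpleGroup G] (hna : ¬ IsMulCommutative G) (he : e = 10)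
    (hG : Nat.card G = 31680) {w : G} (hw : w ∈ Subgroup.centralizer (P : Set G))
    (hw2 : orderOf w = 2) : False := by
  classical
  obtain ⟨B, hB, htB, hmod, hsum, h22⟩ := ten_block hS hna he
  have hcases : ∀ χ ∈ B.erase (triv G), Fg24.M12.sd χ = -32 ∨ Fg24.M12.sd χ = 45 ∨
      Fg24.M12.sd χ = -120 ∨ Fg24.M12.sd χ = 144 := by
    intro χ hχ
    obtain ⟨hne, hχB⟩ := Finset.mem_erase.1 hχ
    obtain ⟨hd1, hdd⟩ := deg_data hna hne
    have hd22 := h22 w hw hw2 χ hχB hne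
    have hm := hmod χ hχB
    rw [hG] at hdd
    have hlt : Cfsg.charDegree (χ : G → ℂ) < 178 := by
      by_contra h
      push Not at h
      have h1 := Nat.mul_le_mul h h
      omega
    have hdvd : Cfsg.charDegree (χ : G → ℂ) ∣ 2880 := by
      have h1 := (Char.IsIrr.degree_dvd_card χ.2 (Fg24.M12.value_one χ)).trans
        (dvd_of_eq hG : Nat.card G ∣ 11 * 2880)
      exact (((Fact.out : Nat.Prime 11).coprime_iff_not_dvd.2 fun h => by
        simp only [Fg24.M12.dg] at hm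
        omega).symm).dvd_of_dvd_mul_left h1
    rw [Fg24.M12.sd]
    rcases degrees_31680 _ hlt hdvd hd22 hm with h | h | h | h <;> simp [Fg24.M12.dg, h]
  obtain ⟨a, b, c, d, hcard, hf⟩ := sum_four _ Fg24.M12.sd _ _ _ _ hcases
  rw [Finset.card_erase_of_mem htB, hB] at hcard
  have h1 := hf id
  rw [← Finset.add_sum_erase _ _ htB] at hsum
  have ht1 : Fg24.M12.sd (triv G : Cfsg.IrrCharacter G) = 1 := by
    simp [Fg24.M12.sd, Fg24.M12.dg_triv]
  have h2 := hf fun x => x * x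
  have hsq := Finset.sum_le_univ_sum_of_nonneg (s := B)
    (f := fun χ : Cfsg.IrrCharacter G => (Fg24.M12.dg χ : ℤ) * Fg24.M12.dg χ) fun χ => mul_self_nonneg _
  rw [sum_sq_deg, hG, ← Finset.add_sum_erase _ _ htB, Fg24.M12.dg_triv] at hsq
  have hsqeq : ∑ χ ∈ B.erase (triv G), (Fg24.M12.dg χ : ℤ) * Fg24.M12.dg χ =
      ∑ χ ∈ B.erase (triv G), Fg24.M12.sd χ * Fg24.M12.sd χ := Finset.sum_congr rfl fun χ _ => by
    rw [Fg24.M12.sd]; split_ifs <;> ring
  rw [hsqeq, h2] at hsq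
  simp only [id] at h1
  rw [ht1, h1] at hsum
  norm_num at hsum hsq
  have hd1 : d ≤ 1 := by omega
  have hc2 : c ≤ 2 := by omega
  interval_cases d <;> interval_cases c <;> omega

theorem not_ten_one [IsSimpleGroup G] (hna : ¬ IsMulCommutative G) (he : e = 10)
    (hG : Nat.card G = 15840) (hC : Nat.card (Subgroup.centralizer (P : Set G)) = 11) :
    False := by
  classical
  obtain ⟨z, hz, hz1, hzo⟩ := hS.exists_gen
  haveI : Fact (Nat.Prime 2) := ⟨Nat.prime_two⟩
  obtain ⟨⟨t, htN⟩, ht⟩ := exists_prime_orderOf_dvd_card'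
    (G := Subgroup.normalizer (P : Set G)) 2 (by rw [hS.card_normalizer, he, hC]; norm_num)
  rw [Subgroup.orderOf_mk] at ht
  have htC : t ∉ Subgroup.centralizer (P : Set G) := fun h => by
    have := ht ▸ Subgroup.orderOf_dvd_natCard _ h
    rw [hC] at this
    norm_num at this
  have htz := inverts hS htN ht htC hz hzo
  have hcentz : Subgroup.centralizer ({z} : Set G) = (P : Subgroup G) := by
    rw [hS.centralizer_eq hz hz1]
    exact (Subgroup.eq_of_le_of_card_ge hS.le_centralizer (by rw [hC, hS.card])).symm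
  -- the values
  have hdata : ∀ χ : Cfsg.IrrCharacter G, ∃ w v : ℤ, ∃ m n : ℕ, (χ : G → ℂ) z = w ∧
      (χ : G → ℂ) t = v ∧ (Fg24.M12.dg χ : ℤ) + 10 * w = 11 * ((m : ℤ) + n) ∧ v = m - n ∧
      (4 : ℤ) ∣ (Fg24.M12.dg χ : ℤ) - v := by
    intro χ
    have hχc := Char.IsIrr.isCharacter χ.2
    obtain ⟨v, hv⟩ := SmallOrder.exists_int_apply_involution hχc ht
    obtain ⟨m, n, hmn, hvmn⟩ := inverted_bound hχc hzo ht htz (Fg24.M12.value_one χ)
      (fun i hi => cf_pow hS he hz hzo χ hi) hv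
    obtain ⟨w, hw, hw10⟩ := Fg24.M12.half_int (x := (χ : G → ℂ) z)
      (Char.IsChar.isIntegral hχc z) (a := 11 * ((m : ℤ) + n) - Fg24.M12.dg χ) 10 (by norm_num)
      (by push_cast; linear_combination hmn)
    exact ⟨w, v, m, n, hw, hv, by push_cast at hw10; linarith, hvmn,
      SmallOrder.four_dvd_degree_sub_apply hna hχc ht (Fg24.M12.value_one χ) hv⟩
  choose w v m n hw hv hdw hvmn h4 using hdata
  obtain ⟨B, hB, htB, hmod, hsum, -⟩ := ten_block hS hna he
  -- the column of `z`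
  have hcol : ∑ χ, w χ * w χ = 11 := by
    have h := Fg24.M12.orth_self z
    simp only [hw, map_intCast, hcentz, hS.card] at h
    exact_mod_cast h
  have hwne : ∀ χ ∈ B, 1 ≤ w χ * w χ := fun χ hχ => by
    have hne : w χ ≠ 0 := fun e => by
      have h := hdw χ
      rw [e] at h
      have := hmod χ hχ
      omega
    rcases lt_or_gt_of_ne hne with h | h <;> nlinarith
  have hone : ∀ χ ∈ B, w χ * w χ = 1 := by
    intro χ hχ
    refine le_antisymm ?_ (hwne χ hχ)
    have h1 : ∑ ψ ∈ B, w ψ * w ψ ≤ ∑ ψ ∈ B, (1 : ℤ) := by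
      rw [Finset.sum_const, hB, nsmul_eq_mul, mul_one, ← hcol.trans (by norm_num : (11 : ℤ) = ((11 : ℕ) : ℤ))]
      exact Finset.sum_le_univ_sum_of_nonneg fun ψ => mul_self_nonneg _
    by_contra hlt
    push Not at hlt
    exact (Finset.sum_lt_sum hwne ⟨χ, hχ, hlt⟩).not_ge h1
  have hzero : ∀ χ, χ ∉ B → w χ = 0 := by
    intro χ hχ
    have h1 := Finset.sum_sdiff (f := fun ψ => w ψ * w ψ) (Finset.subset_univ B)
    rw [hcol, Finset.sum_congr rfl hone, Finset.sum_const, hB, nsmul_eq_mul, mul_one] at h1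
    have h2 := (Finset.sum_eq_zero_iff_of_nonneg (fun ψ _ => mul_self_nonneg (w ψ))).1
      (show ∑ ψ ∈ Finset.univ \ B, w ψ * w ψ = 0 by push_cast at h1; linarith) χ
      (Finset.mem_sdiff.2 ⟨Finset.mem_univ χ, hχ⟩)
    exact mul_self_eq_zero.1 h2
  have ht1 : Fg24.M12.sd (triv G : Cfsg.IrrCharacter G) = 1 := by
    simp [Fg24.M12.sd, Fg24.M12.dg_triv]
  have hwt : w (triv G) = 1 ∧ v (triv G) = 1 := by
    have h1 := hw (triv G); have h2 := hv (triv G)
    rw [Fg24.M12.triv_apply] at h1 h2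
    exact ⟨by exact_mod_cast h1.symm, by exact_mod_cast h2.symm⟩
  have hshape : ∀ χ ∈ B.erase (triv G), (Fg24.M12.sd χ = 12 ∧ v χ = 0) ∨
      (Fg24.M12.sd χ = -32 ∧ v χ = 0) ∨
      (Fg24.M12.sd χ = 45 ∧ w χ = 1 ∧ Fg24.M12.dg χ = 45 ∧ (v χ = -3 ∨ v χ = 1 ∨ v χ = 5)) ∨
      Fg24.M12.sd χ = -120 := by
    intro χ hχ
    obtain ⟨hne, hχB⟩ := Finset.mem_erase.1 hχ
    obtain ⟨hd1, hdd⟩ := deg_data hna hne
    have hm := hmod χ hχB
    rw [hG] at hdd
    have hlt : Cfsg.charDegree (χ : G → ℂ) < 126 := by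
      by_contra h
      push Not at h
      have h1 := Nat.mul_le_mul h h
      omega
    have hdvd : Cfsg.charDegree (χ : G → ℂ) ∣ 1440 := by
      have h1 := (Char.IsIrr.degree_dvd_card χ.2 (Fg24.M12.value_one χ)).trans
        (dvd_of_eq hG : Nat.card G ∣ 11 * 1440)
      exact (((Fact.out : Nat.Prime 11).coprime_iff_not_dvd.2 fun h => by
        simp only [Fg24.M12.dg] at hm
        omega).symm).dvd_of_dvd_mul_left h1
    have hw1 : w χ = 1 ∨ w χ = -1 := mul_self_eq_one_iff.1 (hone χ hχB)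
    have e1 := hdw χ
    have e2 := hvmn χ
    obtain ⟨j, e3⟩ := h4 χ
    rw [Fg24.M12.sd]
    simp only [Fg24.M12.dg] at e1 e3 ⊢
    rcases degrees_15840 _ hlt hdvd (by omega) hm with h | h | h | h | h <;> rw [h] at e1 e3 ⊢
    · exfalso; rcases hw1 with h' | h' <;> omega
    · left; refine ⟨by norm_num, ?_⟩; rcases hw1 with h' | h' <;> omega
    · right; left; refine ⟨by norm_num, ?_⟩; rcases hw1 with h' | h' <;> omega
    · right; right; left
      refine ⟨by norm_num, ?_, rfl, ?_⟩ <;> rcases hw1 with h' | h' <;> omega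
    · right; right; right; norm_num
  obtain ⟨a, b, c, d, hcard, hf⟩ := sum_four _ Fg24.M12.sd 12 (-32) 45 (-120) fun χ hχ => by
    rcases hshape χ hχ with h | h | h | h
    exacts [Or.inl h.1, Or.inr (Or.inl h.1), Or.inr (Or.inr (Or.inl h.1)),
      Or.inr (Or.inr (Or.inr h))]
  rw [Finset.card_erase_of_mem htB, hB] at hcard
  have h1 := hf id
  simp only [id] at h1
  rw [← Finset.add_sum_erase _ _ htB, ht1, h1] at hsum
  have h2 := hf fun x => x * x
  have hsq := Finset.sum_le_univ_sum_of_nonneg (s := B)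
    (f := fun χ : Cfsg.IrrCharacter G => (Fg24.M12.dg χ : ℤ) * Fg24.M12.dg χ) fun χ => mul_self_nonneg _
  rw [sum_sq_deg, hG, ← Finset.add_sum_erase _ _ htB, Fg24.M12.dg_triv,
    Finset.sum_congr rfl (g := fun χ => Fg24.M12.sd χ * Fg24.M12.sd χ) fun χ _ => by
      rw [Fg24.M12.sd]; split_ifs <;> ring] at hsq
  rw [h2] at hsq
  norm_num at hsum hsq
  obtain ⟨ha, hb, hc, hd⟩ : a = 2 ∧ b = 5 ∧ c = 3 ∧ d = 0 := by omega
  -- the members of degree 45
  obtain ⟨F, hF⟩ : ∃ F, F = (B.erase (triv G)).filter fun χ => Fg24.M12.sd χ = 45 := ⟨_, rfl⟩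
  have hFc : F.card = 3 := by
    have h3 := hf fun x => if x = 45 then 1 else 0
    norm_num [hc] at h3
    rw [← hF] at h3
    exact_mod_cast h3
  have hno : ∀ χ ∈ B.erase (triv G), Fg24.M12.sd χ ≠ -120 := by
    intro χ hχ h120
    have h3 := hf fun x => if x = -120 then 1 else 0
    norm_num [hd] at h3
    obtain ⟨hne, hχB⟩ := Finset.mem_erase.1 hχ
    exact h3 χ.1 χ.2 hne hχB h120
  have hsupp : ∀ χ, χ ∉ insert (triv G) F → w χ * v χ = 0 := by
    intro χ hχ
    by_cases hB' : χ ∈ B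
    · have hmem : χ ∈ B.erase (triv G) :=
        Finset.mem_erase.2 ⟨fun e => hχ (e ▸ Finset.mem_insert_self _ _), hB'⟩
      rcases hshape χ hmem with h | h | h | h
      · rw [h.2, mul_zero]
      · rw [h.2, mul_zero]
      · exact absurd (Finset.mem_insert_of_mem (hF ▸ Finset.mem_filter.2 ⟨hmem, h.1⟩)) hχ
      · exact absurd h (hno χ hmem)
    · rw [hzero χ hB', zero_mul]
  have htF : triv G ∉ F := fun h => by
    rw [hF] at h
    exact (Finset.mem_erase.1 (Finset.mem_filter.1 h).1).1 rfl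
  have hF45 : ∀ χ ∈ F, w χ = 1 ∧ Fg24.M12.dg χ = 45 ∧ (v χ = -3 ∨ v χ = 1 ∨ v χ = 5) := by
    intro χ hχ
    rw [hF, Finset.mem_filter] at hχ
    rcases hshape χ hχ.1 with h | h | h | h
    · exact absurd (h.1.symm.trans hχ.2) (by norm_num)
    · exact absurd (h.1.symm.trans hχ.2) (by norm_num)
    · exact h.2
    · exact absurd h (hno χ hχ.1)
  -- orthogonality of the columns of `z` and `t`
  have hzt : ∑ χ ∈ F, v χ = -1 := by
    have h := Fg24.M12.orth_ne (g := z) (h := t) fun hc => by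
      obtain ⟨k, hk⟩ := isConj_iff.1 hc
      have := congrArg orderOf hk
      rw [Blocks.orderOf_conj', hzo, ht] at this
      omega
    simp only [hw, hv, map_intCast] at h
    have h' : ∑ χ, w χ * v χ = 0 := by exact_mod_cast h
    rw [← Finset.sum_subset (Finset.subset_univ (insert (triv G) F)) (fun χ _ hχ => hsupp χ hχ),
      Finset.sum_insert htF, hwt.1, hwt.2, Finset.sum_congr rfl fun χ hχ => by
        rw [(hF45 χ hχ).1, one_mul]] at h'
    linarith
  obtain ⟨p, q, r, r', hpq, hval⟩ := sum_four F v (-3) 1 5 5 fun χ hχ => by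
    rcases (hF45 χ hχ).2.2 with h | h | h <;> simp [h]
  rw [hFc] at hpq
  have e1 := hval id
  simp only [id] at e1
  rw [hzt] at e1
  norm_num at e1
  have e2 := hval fun x => x * x
  norm_num at e2
  -- the pairs of conjugates of `t` with product `z`
  have hpairs : Nat.card {x : G × G // IsConj t x.1 ∧ IsConj t x.2 ∧ x.1 * x.2 = z} = 11 := by
    have htt : t * t = 1 := by rw [← pow_two, ← ht, pow_orderOf_eq_one]
    have hconj : ∀ i : ℕ, IsConj t (t * z ^ i) := fun i => by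
      refine isConj_iff.2 ⟨z ^ (5 * i), ?_⟩
      rw [pow_mul_inv htt htz, mul_assoc, ← mul_inv_rev, ← pow_add, mul_left_cancel_iff]
      refine (eq_inv_of_mul_eq_one_left ?_).symm
      rw [← pow_add, ← orderOf_dvd_iff_pow_eq_one, hzo]
      omega
    have hconj' : ∀ u ∈ (P : Subgroup G), IsConj t (t * u) := fun u hu => by
      rw [← hS.zpowers_eq hz hz1, mem_zpowers_iff_mem_range_orderOf] at hu
      obtain ⟨i, -, rfl⟩ := Finset.mem_image.1 hu
      exact hconj i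
    have hswap : ∀ u ∈ (P : Subgroup G), (t * u)⁻¹ * z = t * (u * z) := fun u hu => by
      rw [← hS.zpowers_eq hz hz1, mem_zpowers_iff_mem_range_orderOf] at hu
      obtain ⟨i, -, rfl⟩ := Finset.mem_image.1 hu
      rw [mul_inv_rev, inv_eq_of_mul_eq_one_left htt, ← mul_assoc,
        show (z ^ i)⁻¹ * t = t * z ^ i by
          have h := pow_mul_inv htt htz i
          rw [inv_mul_eq_iff_eq_mul, ← mul_assoc, h, mul_assoc, inv_mul_cancel, mul_one]]
    rw [← hS.card]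
    refine (Nat.card_eq_of_bijective (fun u : (P : Subgroup G) =>
      (⟨(t * u, (t * u)⁻¹ * z), hconj' _ u.2, by
        rw [hswap _ u.2]; exact hconj' _ (mul_mem u.2 hz), mul_inv_cancel_left _ _⟩ :
        {x : G × G // IsConj t x.1 ∧ IsConj t x.2 ∧ x.1 * x.2 = z})) ⟨?_, ?_⟩).symm
    · intro u u' h
      exact Subtype.ext (mul_left_cancel (congrArg (fun x => x.1.1) h))
    · rintro ⟨⟨x, y⟩, hx, hy, hxy⟩
      have hinv : ∀ a : G, IsConj t a → a * a = 1 := fun a ha => by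
        obtain ⟨k, rfl⟩ := isConj_iff.1 ha
        rw [show k * t * k⁻¹ * (k * t * k⁻¹) = k * (t * t) * k⁻¹ by group, htt]; group
      simp only at hx hy hxy
      have hxx := hinv x hx
      have hyy := hinv y hy
      have hu : t * x ∈ (P : Subgroup G) := by
        rw [← hcentz, Subgroup.mem_centralizer_singleton_iff]
        have h1 : x * z * x⁻¹ = z⁻¹ := by
          rw [← hxy, inv_eq_of_mul_eq_one_left hxx, mul_inv_rev,
            inv_eq_of_mul_eq_one_left hyy, inv_eq_of_mul_eq_one_left hxx, ← mul_assoc, hxx, one_mul]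
        rw [← mul_inv_eq_iff_eq_mul, mul_inv_rev,
          show t * x * z * (x⁻¹ * t⁻¹) = t * (x * z * x⁻¹) * t⁻¹ by group, h1,
          show t * z⁻¹ * t⁻¹ = (t * z * t⁻¹)⁻¹ by group, htz, inv_inv]
      refine ⟨⟨t * x, hu⟩, Subtype.ext (Prod.ext ?_ ?_)⟩
      · show t * (t * x) = x
        rw [← mul_assoc, htt, one_mul]
      · show (t * (t * x))⁻¹ * z = y
        rw [← mul_assoc, htt, one_mul, ← hxy, inv_mul_cancel_left]
  have hform := S0840.result t t z
  rw [hpairs, finsum_eq_sum_of_fintype] at hform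
  obtain ⟨k, hk⟩ : ∃ k, k = Nat.card {x : G // IsConj t x} := ⟨_, rfl⟩
  rw [← hk, hG] at hform
  simp only [hw, hv, map_intCast, Fg24.M12.value_one] at hform
  rw [← Finset.sum_subset (Finset.subset_univ (insert (triv G) F)) (fun χ _ hχ => by
      have h := hsupp χ hχ
      have h' : ((w χ : ℤ) : ℂ) * (v χ : ℂ) = 0 := by exact_mod_cast h
      rw [show (v χ : ℂ) * v χ * w χ = v χ * ((w χ : ℂ) * v χ) by ring, h', mul_zero, zero_div]),
    Finset.sum_insert htF, hwt.1, hwt.2, Fg24.M12.dg_triv,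
    Finset.sum_congr rfl (g := fun χ => ((v χ * v χ : ℤ) : ℂ) / 45) fun χ hχ => by
      rw [(hF45 χ hχ).1, (hF45 χ hχ).2.1]; push_cast; ring,
    ← Finset.sum_div, ← Int.cast_sum, e2] at hform
  have hkey : ((k * k : ℕ) : ℤ) * (45 + ((p : ℤ) * 9 + q + r * 25 + r' * 25)) = 7840800 := by
    have h : (((k * k : ℕ) : ℤ) * (45 + ((p : ℤ) * 9 + q + r * 25 + r' * 25)) : ℂ) =
        ((7840800 : ℤ) : ℂ) := by
      push_cast at hform ⊢
      linear_combination (-712800 : ℂ) * hform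
    exact_mod_cast h
  have hk300 : ∀ k : ℕ, k < 400 → k * k ≠ 89100 := by decide +kernel
  rcases (show (p = 1 ∧ q = 2 ∧ r = 0 ∧ r' = 0) ∨ (p = 2 ∧ q = 0 ∧ r = 1 ∧ r' = 0) ∨
      (p = 2 ∧ q = 0 ∧ r = 0 ∧ r' = 1) by omega) with
    ⟨rfl, rfl, rfl, rfl⟩ | ⟨rfl, rfl, rfl, rfl⟩ | ⟨rfl, rfl, rfl, rfl⟩ <;> norm_num at hkey
  · omega
  all_goals
    have hk2 : k * k = 89100 := by
      have : ((k * k : ℕ) : ℤ) = 89100 := by push_cast; linarith
      exact_mod_cast this
    refine hk300 k ?_ hk2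
    by_contra h
    push Not at h
    have := Nat.mul_le_mul h h
    omega

end Cfsg.Agent.M12Graph
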