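import Cfsg.Agent.M12Graph.Central
import Cfsg.Agent.BlockThms.OrderP.Setup

/-!
# An element centralising a Sylow 11-subgroup fixes all points of a small transitive action
-/

set_option autoImplicit false
set_option linter.unusedSectionVars false

namespace Cfsg.Agent.M12Graph

open Cfsg.Agent

section Actions

variable {G X : Type*} [Group G] [MulAction G X]

theorem dvd_of_pow_smul_eq {r : ℕ} (hr : r.Prime) {a : G} (ha : orderOf a = r) {p : X}
    (hp : a • p ≠ p) {k : ℕ} (hk : a ^ k • p = p) : r ∣ k := by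
  by_contra hd
  obtain ⟨m, hm⟩ := exists_pow_eq_self_of_coprime (x := a) (n := k)
    (by rw [ha, Nat.coprime_comm]; exact hr.coprime_iff_not_dvd.2 hd)
  refine hp ?_
  have h : (a ^ k) ^ m ∈ MulAction.stabilizer G p := pow_mem hk m
  rw [hm] at h
  exact h

theorem injective_of_period {m : ℕ} {a : G} {p : X} (h : ∀ k : ℕ, a ^ k • p = p → m ∣ k) :
    Function.Injective fun i : Fin m => a ^ (i : ℕ) • p := by
  intro i j hij
  wlog hle : (i : ℕ) ≤ j generalizing i j
  · exact (this hij.symm (by omega)).symm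
  have h1 : a ^ (i : ℕ) • p = a ^ (j : ℕ) • p := hij
  rw [← Nat.add_sub_cancel' hle, pow_add, mul_smul] at h1
  have h2 := h _ (smul_left_cancel _ h1).symm
  have hj := j.isLt
  have := Nat.eq_zero_of_dvd_of_lt h2 (by omega)
  exact Fin.ext (by omega)

/-- An element of prime order `q` commuting with one of order eleven with fewer than `q` fixed
points fixes everything in an action on fewer than `11 q` points. -/
theorem fixed_of_small [Finite X] {z y : G} {q : ℕ} (hq : q.Prime) (hq11 : q ≠ 11)
    (hz : orderOf z = 11) (hy : orderOf y = q) (hzy : Commute z y)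
    (hf : Nat.card (MulAction.fixedBy X z) < q) (hX : Nat.card X < 11 * q) (p : X) : y • p = p := by
  by_contra hp
  by_cases hzp : z • p = p
  · have hfix : ∀ k : ℕ, y ^ k • p ∈ MulAction.fixedBy X z := fun k => by
      show z • y ^ k • p = y ^ k • p
      rw [← mul_smul, (hzy.pow_right k).eq, mul_smul, hzp]
    have hinj := injective_of_period (m := q) fun k hk => dvd_of_pow_smul_eq hq hy hp hk
    have : Nat.card (Fin q) ≤ Nat.card (MulAction.fixedBy X z) := Nat.card_le_card_of_injective
      (fun i : Fin q => (⟨y ^ (i : ℕ) • p, hfix i⟩ : MulAction.fixedBy X z))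
      fun i j h => hinj (congrArg Subtype.val h)
    rw [Nat.card_fin] at this
    omega
  · have h11 : Nat.Prime 11 := by norm_num
    have hper : ∀ k : ℕ, (z * y) ^ k • p = p → 11 * q ∣ k := by
      intro k hk
      have hpow : ∀ m : ℕ, (z * y) ^ (k * m) • p = p := fun m => by
        have h : ((z * y) ^ k) ^ m ∈ MulAction.stabilizer G p := pow_mem hk m
        rwa [← pow_mul] at h
      have h1 := hpow 11
      rw [hzy.mul_pow, show z ^ (k * 11) = 1 from
        orderOf_dvd_iff_pow_eq_one.1 (hz ▸ dvd_mul_left 11 k), one_mul] at h1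
      have h2 := hpow q
      rw [hzy.mul_pow, show y ^ (k * q) = 1 from
        orderOf_dvd_iff_pow_eq_one.1 (hy ▸ dvd_mul_left q k), mul_one] at h2
      refine Nat.Coprime.mul_dvd_of_dvd_of_dvd ((Nat.coprime_primes h11 hq).2 (Ne.symm hq11))
        ?_ ?_
      · exact (h11.dvd_mul.1 (dvd_of_pow_smul_eq h11 hz hzp h2)).resolve_right fun h =>
          hq11 ((Nat.prime_dvd_prime_iff_eq h11 hq).1 h).symm
      · exact (hq.dvd_mul.1 (dvd_of_pow_smul_eq hq hy hp h1)).resolve_right fun h =>
          hq11 ((Nat.prime_dvd_prime_iff_eq hq h11).1 h)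
    have := Nat.card_le_card_of_injective _ (injective_of_period (m := 11 * q) hper)
    rw [Nat.card_fin] at this
    omega

end Actions

variable {S : Type*} [Group S] [Finite S] [IsSimpleGroup S]

/-- An element fixing every point of a nontrivial transitive action is trivial. -/
theorem eq_one_of_fixed {X : Type*} [MulAction S X] [MulAction.IsPretransitive S X] [Finite X]
    (hX : 1 < Nat.card X) {y : S} (hy : ∀ p : X, y • p = p) : y = 1 := by
  have hker : y ∈ (MulAction.toPermHom S X).ker := MonoidHom.mem_ker.2 (Equiv.ext hy)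
  rcases ((inferInstance : (MulAction.toPermHom S X).ker.Normal)).eq_bot_or_eq_top with hb | ht
  · rwa [hb, Subgroup.mem_bot] at hker
  · exfalso
    have : Subsingleton X := ⟨fun a b => by
      obtain ⟨g, rfl⟩ := MulAction.exists_smul_eq S a b
      have h1 : g ∈ (MulAction.toPermHom S X).ker := ht ▸ Subgroup.mem_top g
      exact (congrFun (congrArg DFunLike.coe (MonoidHom.mem_ker.1 h1)) a).symm⟩
    have := Finite.card_le_one_iff_subsingleton.2 this
    omega

section Sylow

variable [Fact (Nat.Prime 11)] {P : Sylow 11 S} {e : ℕ} (hS : BlockThms.OrderP.Setup P e)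
include hS

theorem smul_eq_iff {z : S} (hz : z ∈ (P : Subgroup S)) (hz1 : z ≠ 1) (Q : Sylow 11 S) :
    z • Q = Q ↔ Q = P := by
  constructor
  · intro h
    have h1 : z ∈ Subgroup.normalizer ((Q : Subgroup S) : Set S) :=
      Sylow.smul_eq_iff_mem_normalizer.1 h
    have hPle : (P : Subgroup S) ≤ Subgroup.normalizer ((Q : Subgroup S) : Set S) := by
      rw [← hS.zpowers_eq hz hz1]
      exact Subgroup.zpowers_le.2 h1
    have hPQ : (P : Subgroup S) ≤ Q := fun y hy => by
      have h2 : y ∈ (P : Subgroup S) ⊓ Subgroup.normalizer ((Q : Subgroup S) : Set S) :=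
        ⟨hy, hPle hy⟩
      exact ((P.isPGroup'.inf_normalizer_sylow Q).le h2).2
    exact Sylow.ext (Subgroup.eq_of_le_of_card_ge hPQ
      (Q.card_eq_multiplicity.trans P.card_eq_multiplicity.symm).le).symm
  · rintro rfl
    exact Sylow.smul_eq_iff_mem_normalizer.2 (Subgroup.le_normalizer hz)

/-- With twelve Sylow subgroups the centraliser is trivial. -/
theorem eq_one_of_twelve (h12 : Nat.card (Sylow 11 S) = 12) {y : S} {q : ℕ} (hq : q.Prime)
    (hq11 : q ≠ 11) (hy : orderOf y = q) (hyC : y ∈ Subgroup.centralizer (P : Set S)) : False := by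
  obtain ⟨z, hz, hz1, hzo⟩ := hS.exists_gen
  have hzy : Commute z y := Subgroup.mem_centralizer_iff.1 hyC z hz
  have hfix : Nat.card (MulAction.fixedBy (Sylow 11 S) z) = 1 := by
    refine Nat.card_eq_one_iff_unique.2 ⟨⟨fun a b => Subtype.ext ?_⟩,
      ⟨⟨P, (smul_eq_iff hS hz hz1 P).2 rfl⟩⟩⟩
    exact ((smul_eq_iff hS hz hz1 _).1 a.2).trans ((smul_eq_iff hS hz hz1 _).1 b.2).symm
  have h2 := hq.two_le
  have hall := fixed_of_small (X := Sylow 11 S) hq hq11 hzo hy hzy (by omega) (by omega)
  have := eq_one_of_fixed (X := Sylow 11 S) (by omega) hall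
  rw [this, orderOf_one] at hy
  omega

/-- With 144 Sylow subgroups an element of order two or three of the centraliser is trivial under
two local conditions. -/
theorem eq_one_of_144 (h144 : Nat.card (Sylow 11 S) = 144) {y : S} {q : ℕ} (hq23 : q = 2 ∨ q = 3)
    (hy : orderOf y = q) (hyC : y ∈ Subgroup.centralizer (P : Set S))
    (hnorm : ∀ Q : Sylow 11 S, y ∈ Subgroup.normalizer ((Q : Subgroup S) : Set S) →
      y ∈ Subgroup.centralizer ((Q : Subgroup S) : Set S))
    (hr : (Subgroup.centralizer ({y} : Set S)).relIndex (Subgroup.normalizer (P : Set S)) < q) :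
    False := by
  classical
  have hq : q.Prime := by rcases hq23 with rfl | rfl <;> norm_num
  haveI : Fact q.Prime := ⟨hq⟩
  obtain ⟨z, hz, hz1, hzo⟩ := hS.exists_gen
  have hzy : Commute z y := Subgroup.mem_centralizer_iff.1 hyC z hz
  have hy1 : y ≠ 1 := fun e => by rw [e, orderOf_one] at hy; exact hq.ne_one hy.symm
  obtain ⟨H, hH⟩ : ∃ H, H = Subgroup.centralizer ({y} : Set S) := ⟨_, rfl⟩
  rw [← hH] at hr
  have hzH : z ∈ H := hH ▸ Subgroup.mem_centralizer_singleton_iff.2 hzy.eq
  have hle : ∀ Q : Sylow 11 S, y ∈ Subgroup.centralizer ((Q : Subgroup S) : Set S) →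
      (Q : Subgroup S) ≤ H := fun Q h a ha => by
    rw [hH]
    exact Subgroup.mem_centralizer_singleton_iff.2 (Subgroup.mem_centralizer_iff.1 h a ha)
  -- the Sylow subgroups fixed by `y`
  have horb : MulAction.orbit H P = {Q : Sylow 11 S | y • Q = Q} := by
    ext Q
    constructor
    · rintro ⟨⟨h, hh⟩, rfl⟩
      rw [hH] at hh
      show y • h • P = h • P
      rw [← mul_smul, ← Subgroup.mem_centralizer_singleton_iff.1 hh, mul_smul,
        Sylow.smul_eq_iff_mem_normalizer.2 (Subgroup.centralizer_le_normalizer _ hyC)]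
    · intro hQ
      have hQH := hle Q (hnorm Q (Sylow.smul_eq_iff_mem_normalizer.1 hQ))
      obtain ⟨h, hh⟩ := MulAction.exists_smul_eq H (P.subtype (hle P hyC)) (Q.subtype hQH)
      rw [Sylow.smul_subtype] at hh
      exact ⟨h, Sylow.subtype_injective hh⟩
  obtain ⟨F, hF⟩ : ∃ F, F = Nat.card (MulAction.orbit H P) := ⟨_, rfl⟩
  have hFy : F = Nat.card (MulAction.fixedPoints (Subgroup.zpowers y) (Sylow 11 S)) := by
    rw [hF, horb]
    refine Nat.card_congr (Equiv.setCongr (Set.ext fun Q => ?_))
    constructor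
    · intro hQ
      rintro ⟨a, ha⟩
      exact (Subgroup.zpowers_le.2 hQ : Subgroup.zpowers y ≤ MulAction.stabilizer S Q) ha
    · exact fun hQ => hQ ⟨y, Subgroup.mem_zpowers y⟩
  have hFq : F % q = 0 := by
    have h := (IsPGroup.of_card (p := q) (n := 1) (by rw [Nat.card_zpowers, hy, pow_one]) :
      IsPGroup q (Subgroup.zpowers y)).card_modEq_card_fixedPoints (Sylow 11 S)
    rw [← hFy, h144] at h
    rcases hq23 with rfl | rfl <;> rw [Nat.ModEq] at h <;> omega
  have hF11 : F % 11 = 1 := by
    let zH : H := ⟨z, hzH⟩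
    have hzHo : orderOf zH = 11 := by rw [← Subgroup.orderOf_coe]; exact hzo
    have h := (IsPGroup.of_card (p := 11) (n := 1) (by rw [Nat.card_zpowers, hzHo, pow_one]) :
      IsPGroup 11 (Subgroup.zpowers zH)).card_modEq_card_fixedPoints (MulAction.orbit H P)
    have h1 : Nat.card (MulAction.fixedPoints (Subgroup.zpowers zH) (MulAction.orbit H P)) = 1 := by
      refine Nat.card_eq_one_iff_unique.2 ⟨⟨fun a b => ?_⟩, ⟨⟨⟨P, MulAction.mem_orbit_self P⟩, ?_⟩⟩⟩
      · have key : ∀ a : MulAction.fixedPoints (Subgroup.zpowers zH) (MulAction.orbit H P),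
            (a.1 : Sylow 11 S) = P := fun a =>
          (smul_eq_iff hS hz hz1 _).1 (congrArg Subtype.val (a.2 ⟨zH, Subgroup.mem_zpowers zH⟩))
        exact Subtype.ext (Subtype.ext ((key a).trans (key b).symm))
      · rintro ⟨u, hu⟩
        obtain ⟨i, rfl⟩ := Subgroup.mem_zpowers_iff.1 hu
        refine Subtype.ext ?_
        show ((zH ^ i : H) : S) • P = P
        rw [Subgroup.coe_zpow]
        exact Sylow.smul_eq_iff_mem_normalizer.2 (Subgroup.le_normalizer (zpow_mem hz i))
    rw [← hF, h1, Nat.ModEq] at h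
    omega
  have hFlt : F < 144 := by
    have hle' : F ≤ Nat.card (Sylow 11 S) :=
      hF ▸ Nat.card_le_card_of_injective _ Subtype.val_injective
    rw [h144] at hle'
    rcases hle'.lt_or_eq with h | h
    · exact h
    exfalso
    refine hy1 (eq_one_of_fixed (X := Sylow 11 S) (by omega) fun Q => ?_)
    have hu : MulAction.orbit H P = Set.univ :=
      Set.eq_of_subset_of_ncard_le (Set.subset_univ _) (by
        rw [Set.ncard_univ, ← Nat.card_coe_set_eq, h144, ← hF, h]) (Set.toFinite _)
    have hQ : Q ∈ MulAction.orbit H P := hu ▸ Set.mem_univ Q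
    rw [horb] at hQ
    exact hQ
  -- the index of the centraliser
  obtain ⟨N, hN⟩ : ∃ N, N = Subgroup.normalizer (P : Set S) := ⟨_, rfl⟩
  rw [← hN] at hr
  obtain ⟨r, hr'⟩ : ∃ r, r = H.relIndex N := ⟨_, rfl⟩
  rw [← hr'] at hr
  have hr0 : r ≠ 0 := hr' ▸ Subgroup.index_ne_zero_of_finite
  have hFmul : F * Nat.card (H ⊓ N : Subgroup S) = Nat.card H := by
    rw [← Subgroup.card_mul_index (MulAction.stabilizer H P), MulAction.index_stabilizer,
      ← Nat.card_coe_set_eq, ← hF, mul_comm]
    congr 1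
    rw [← Nat.card_congr (Subgroup.subgroupOfEquivOfLe (inf_le_left : H ⊓ N ≤ H)).toEquiv,
      Subgroup.inf_subgroupOf_left]
    refine Nat.card_congr (Equiv.subtypeEquivRight fun h => ?_)
    rw [MulAction.mem_stabilizer_iff, Subgroup.mem_subgroupOf, hN]
    exact Sylow.smul_eq_iff_mem_normalizer.symm
  have hrmul : r * Nat.card (H ⊓ N : Subgroup S) = Nat.card N := by
    rw [hr', ← Subgroup.card_mul_index (H.subgroupOf N), mul_comm]
    congr 1
    rw [← Nat.card_congr (Subgroup.subgroupOfEquivOfLe (inf_le_right : H ⊓ N ≤ N)).toEquiv,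
      Subgroup.inf_subgroupOf_right]
  have hN144 : Nat.card N * 144 = Nat.card S := by
    rw [← h144, hN, Sylow.card_eq_index_normalizer P]
    exact Subgroup.card_mul_index (Subgroup.normalizer ((P : Subgroup S) : Set S))
  obtain ⟨i, hi⟩ : ∃ i, i = H.index := ⟨_, rfl⟩
  have hiF : i * F = 144 * r := by
    have h1 : Nat.card (H ⊓ N : Subgroup S) * (i * F) =
        Nat.card (H ⊓ N : Subgroup S) * (144 * r) := by
      have h2 := Subgroup.card_mul_index H
      rw [← hi, ← hFmul, ← hN144, ← hrmul] at h2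
      linear_combination h2
    exact Nat.eq_of_mul_eq_mul_left Nat.card_pos h1
  have hi12 : i = 12 * r := by
    have hF12 : F = 12 := by
      have hd : F ∣ 144 * r := Dvd.intro_left i hiF
      have key : ∀ F : ℕ, F < 144 → ∀ q ∈ [2, 3], ∀ r : ℕ, r < q → r ≠ 0 → F % q = 0 →
          F % 11 = 1 → F ∣ 144 * r → F = 12 := by decide +kernel
      exact key F hFlt q (by rcases hq23 with rfl | rfl <;> simp) r hr hr0 hFq hF11 hd
    rw [hF12] at hiF
    omega
  have hcard : Nat.card (S ⧸ H) = 12 * r := by rw [← Subgroup.index_eq_card, ← hi, hi12]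
  -- fixed cosets
  have hsub : MulAction.fixedBy (S ⧸ H) z ⊆ MulAction.orbit N ((1 : S) : S ⧸ H) := by
    intro x hx
    induction x using QuotientGroup.induction_on with
    | H g =>
      rw [MulAction.mem_fixedBy, MulAction.Quotient.smul_mk, smul_eq_mul, QuotientGroup.eq] at hx
      have hm : g⁻¹ * z * g ∈ H := by
        have := H.inv_mem hx
        simpa [mul_assoc] using this
      rw [hH, Subgroup.mem_centralizer_singleton_iff] at hm
      have hQ : g⁻¹ • P ∈ MulAction.orbit H P := by
        rw [horb]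
        refine Sylow.smul_eq_iff_mem_normalizer.2 (Subgroup.centralizer_le_normalizer _ ?_)
        refine Subgroup.mem_centralizer_iff.2 fun a ha => ?_
        change a ∈ ((g⁻¹ • P : Sylow 11 S) : Subgroup S) at ha
        rw [Sylow.coe_subgroup_smul] at ha
        obtain ⟨b, hb, rfl⟩ := ha
        rw [← hS.zpowers_eq hz hz1] at hb
        obtain ⟨j, rfl⟩ := hb
        show MulAut.conj g⁻¹ (z ^ j) * y = y * MulAut.conj g⁻¹ (z ^ j)
        rw [map_zpow, MulAut.conj_apply, inv_inv]
        exact ((show Commute (g⁻¹ * z * g) y from hm).zpow_left j).eq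
      obtain ⟨⟨h, hh⟩, hhP⟩ := hQ
      have hgh : g * h ∈ N := by
        rw [hN]
        refine Sylow.smul_eq_iff_mem_normalizer.1 ?_
        rw [mul_smul, show h • P = g⁻¹ • P from hhP, smul_inv_smul]
      refine ⟨⟨g * h, hgh⟩, ?_⟩
      show (g * h) • ((1 : S) : S ⧸ H) = (g : S ⧸ H)
      rw [MulAction.Quotient.smul_mk, smul_eq_mul, mul_one, QuotientGroup.eq]
      simpa using hh
  have hfix : Nat.card (MulAction.fixedBy (S ⧸ H) z) < q := by
    refine lt_of_le_of_lt (le_trans (Nat.card_mono (Set.toFinite _) hsub) (le_of_eq ?_)) hr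
    rw [hr', Nat.card_coe_set_eq, ← MulAction.index_stabilizer]
    show _ = (H.subgroupOf N).index
    congr 1
    ext n
    rw [MulAction.mem_stabilizer_iff, Subgroup.mem_subgroupOf]
    show (n : S) • ((1 : S) : S ⧸ H) = _ ↔ _
    rw [MulAction.Quotient.smul_mk, smul_eq_mul, mul_one, QuotientGroup.eq, mul_one, inv_mem_iff]
  have hall := fixed_of_small (X := S ⧸ H) hq (by rcases hq23 with rfl | rfl <;> norm_num) hzo hy
    hzy hfix (by rw [hcard]; rcases hq23 with rfl | rfl <;> omega)
  exact hy1 (eq_one_of_fixed (X := S ⧸ H) (by rw [hcard]; omega) hall)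

end Sylow

end Cfsg.Agent.M12Graph
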