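import Cfsg.Agent.M12Graph.Simple
import Cfsg.Agent.M12Graph.Facts
import Cfsg.Agent.Fg24.M12.Ident
import Cfsg.Agent.Fg24.M11.Ident
import Cfsg.Agent.ProjExt.Ratio
import Cfsg.Agent.ProjExt.Stem
import Cfsg.Agent.CharArith.PrimeCodegree
import Cfsg.Agent.Blocks.NormalDefect.Degrees
import Cfsg.Agent.Zassenhaus.DegSum
import Cfsg.Agent.S2034
import Cfsg.Agent.S2060

/-!
# Groups with the order and the degree graph of the Mathieu group of degree twelve
-/

set_option autoImplicit false
set_option linter.unusedSectionVars false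

namespace Cfsg.Agent.M12Graph

open Cfsg.Agent
open scoped commutatorElement

universe u

/-- A group of order twelve with an irreducible character of degree three is alternating. -/
theorem iso_alt_four {C : Type u} [Group C] [Finite C] (hC : Nat.card C = 12)
    (χ : Cfsg.IrrCharacter C) (hχ : Cfsg.charDegree (χ : C → ℂ) = 3) :
    Nonempty (C ≃* alternatingGroup (Fin 4)) := by
  classical
  haveI : Fact (Nat.Prime 3) := ⟨Nat.prime_three⟩
  have hC' : Nat.card C = 3 ^ 1 * 4 := by rw [hC]; norm_num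
  have hnot : ∀ T : Sylow 3 C, ¬ (T : Subgroup C).Normal := by
    intro T hT
    have hc : Nat.card (T : Subgroup C) = 3 := by
      rw [SmallOrder.card_sylow_eq_pow hC' (by norm_num) T, pow_one]
    haveI : IsCyclic (T : Subgroup C) := isCyclic_of_prime_card hc
    have hd := Blocks.NormalDefect.charDegree_dvd_index (T : Subgroup C) (fun a ha b hb =>
      congrArg Subtype.val (mul_comm' (⟨a, ha⟩ : (T : Subgroup C)) ⟨b, hb⟩)) χ
    have hm := Subgroup.card_mul_index (T : Subgroup C)
    rw [hc, hC] at hm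
    rw [hχ, show (T : Subgroup C).index = 4 by omega] at hd
    norm_num at hd
  have h4 : Nat.card (Sylow 3 C) = 4 := by
    have h1 := SmallOrder.card_sylow_dvd hC' (by norm_num)
    have h2 := SmallOrder.card_sylow_mod (G := C) 3
    have h3 := Nat.le_of_dvd (by norm_num) h1
    have hne : Nat.card (Sylow 3 C) ≠ 1 := fun h => by
      obtain ⟨T⟩ : Nonempty (Sylow 3 C) := inferInstance
      refine hnot T ?_
      rw [← Subgroup.normalizer_eq_top_iff, ← Subgroup.index_eq_one]
      exact (Sylow.card_eq_index_normalizer T).symm.trans h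
    interval_cases h : Nat.card (Sylow 3 C) <;> omega
  letI := Fintype.ofFinite (Sylow 3 C)
  let eq : Sylow 3 C ≃ Fin 4 := Fintype.equivFinOfCardEq (by rw [← Nat.card_eq_fintype_card, h4])
  let f : C →* Equiv.Perm (Fin 4) :=
    eq.permCongrHom.toMonoidHom.comp (MulAction.toPermHom C (Sylow 3 C))
  have hker : (MulAction.toPermHom C (Sylow 3 C)).ker = ⊥ := by
    obtain ⟨T⟩ : Nonempty (Sylow 3 C) := inferInstance
    have hc : Nat.card (T : Subgroup C) = 3 := by
      rw [SmallOrder.card_sylow_eq_pow hC' (by norm_num) T, pow_one]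
    have hN : Subgroup.normalizer ((T : Subgroup C) : Set C) = (T : Subgroup C) := by
      refine (Subgroup.eq_of_le_of_card_ge Subgroup.le_normalizer ?_).symm
      have hm := Subgroup.card_mul_index (Subgroup.normalizer ((T : Subgroup C) : Set C))
      rw [show (Subgroup.normalizer ((T : Subgroup C) : Set C)).index = 4 from
        (Sylow.card_eq_index_normalizer T).symm.trans h4, hC] at hm
      omega
    have hle : (MulAction.toPermHom C (Sylow 3 C)).ker ≤ (T : Subgroup C) := fun a ha => by
      rw [← hN]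
      exact Sylow.smul_eq_iff_mem_normalizer.1
        (congrFun (congrArg DFunLike.coe (MonoidHom.mem_ker.1 ha)) T)
    rcases (Nat.dvd_prime Nat.prime_three).1 (hc ▸ Subgroup.card_dvd_of_le hle) with h | h
    · exact Subgroup.eq_bot_of_card_eq _ h
    · exfalso
      exact hnot T (Subgroup.eq_of_le_of_card_ge hle (by rw [hc, h]) ▸ MonoidHom.normal_ker _)
  have hf : Function.Injective f :=
    eq.permCongrHom.injective.comp ((MonoidHom.ker_eq_bot_iff _).1 hker)
  have hidx : f.range.index = 2 := by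
    have h := Subgroup.card_mul_index f.range
    rw [← Nat.card_congr (MonoidHom.ofInjective hf).toEquiv, hC, Nat.card_perm, Nat.card_fin] at h
    norm_num [Nat.factorial] at h
    omega
  exact ⟨(MonoidHom.ofInjective hf).trans
    (MulEquiv.subgroupCongr (Equiv.Perm.eq_alternatingGroup_of_index_eq_two hidx))⟩

/-- The stem extension argument at the Mathieu group of degree eleven. -/
theorem center_eq_bot {K : Type u} [Group K] [Finite K] (hperf : commutator K = ⊤)
    (e : K ⧸ Subgroup.center K ≃* ↥Cfsg.Spor.M11) : Subgroup.center K = ⊥ := by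
  obtain ⟨Γ, hΓ, hΓ', ⟨φ⟩⟩ := Finite.exists_type_univ_nonempty_mulEquiv.{u, 0} K
  let σ : Γ →* ↥Cfsg.Spor.M11 :=
    (e.toMonoidHom.comp (QuotientGroup.mk' (Subgroup.center K))).comp φ.symm.toMonoidHom
  have hmem : ∀ x : Γ, x ∈ σ.ker ↔ φ.symm x ∈ Subgroup.center K := fun x => by
    rw [MonoidHom.mem_ker]
    show e ((φ.symm x : K) : K ⧸ Subgroup.center K) = 1 ↔ _
    rw [MulEquiv.map_eq_one_iff, QuotientGroup.eq_one_iff]
  have hperfΓ : commutator Γ = ⊤ := by
    rw [commutator_def, ← MonoidHom.range_eq_top.2 (show Function.Surjective φ.toMonoidHom from φ.surjective), MonoidHom.range_eq_map,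
      ← Subgroup.map_commutator, ← commutator_def, hperf]
  have hstem : Cfsg.IsStemExtension σ := by
    refine ⟨e.surjective.comp ((QuotientGroup.mk'_surjective _).comp φ.symm.surjective), ?_,
      hperfΓ ▸ le_top⟩
    intro x hx
    refine Subgroup.mem_center_iff.2 fun y => φ.symm.injective ?_
    rw [map_mul, map_mul]
    exact Subgroup.mem_center_iff.1 ((hmem x).1 hx) _
  have hbot := ProjExt.Stem.ker_eq_bot_of_trivial S2034.result Γ σ hstem
  refine (Subgroup.eq_bot_iff_forall _).2 fun z hz => ?_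
  have : φ z ∈ σ.ker := (hmem _).2 (by rwa [φ.symm_apply_apply])
  rw [hbot, Subgroup.mem_bot] at this
  exact φ.map_eq_one_iff.1 this

/-- A normal subgroup isomorphic to the Mathieu group of degree eleven is a direct factor. -/
theorem exists_factor {G : Type u} [Group G] (K : Subgroup G) [K.Normal]
    (e : K ≃* ↥Cfsg.Spor.M11) (hZ : Subgroup.center K = ⊥) :
    Nonempty (G ≃* Subgroup.centralizer (K : Set G) × K) := by
  have hcomm : ∀ (c : Subgroup.centralizer (K : Set G)) (k : K),
      (c : G) * (k : G) = (k : G) * (c : G) := fun c k =>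
    (Subgroup.mem_centralizer_iff.1 c.2 k k.2).symm
  let Φ : Subgroup.centralizer (K : Set G) × K →* G :=
    MonoidHom.mk' (fun x => (x.1 : G) * (x.2 : G)) fun x y => by
      show ((x.1 : G) * y.1) * ((x.2 : G) * y.2) = _
      rw [mul_assoc, ← mul_assoc (y.1 : G), hcomm y.1 x.2]
      group
  have hinj : Function.Injective Φ := by
    refine (MonoidHom.ker_eq_bot_iff _).1 ((Subgroup.eq_bot_iff_forall _).2 ?_)
    rintro ⟨c, k⟩ h
    have h' : (c : G) * k = 1 := h
    have hc : (c : G) = ((k⁻¹ : K) : G) := eq_inv_of_mul_eq_one_left h'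
    have hk : (k⁻¹ : K) ∈ Subgroup.center K := Subgroup.mem_center_iff.2 fun x => Subtype.ext (by
      show (x : G) * ((k⁻¹ : K) : G) = ((k⁻¹ : K) : G) * x
      rw [← hc, hcomm])
    rw [hZ, Subgroup.mem_bot, inv_eq_one] at hk
    subst hk
    refine Prod.ext (Subtype.ext ?_) rfl
    simpa using h'
  have hout : Nat.card (Cfsg.Out ↥Cfsg.Spor.M11) = 1 := S2060.result
  have hsurj : Function.Surjective Φ := by
    intro g
    let β : MulAut ↥Cfsg.Spor.M11 := (e.symm.trans (MulAut.conjNormal g)).trans e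
    have hβ : β ∈ Cfsg.Inn ↥Cfsg.Spor.M11 := by
      obtain ⟨hs, -⟩ := Nat.card_eq_one_iff_unique.1 hout
      exact (QuotientGroup.eq_one_iff β).1 (@Subsingleton.elim _ hs _ _)
    obtain ⟨m, hm⟩ := hβ
    have hconj : ∀ x : K, g * (x : G) * g⁻¹ = (e.symm m : G) * x * (e.symm m : G)⁻¹ := by
      intro x
      have h1 := congrArg (fun a : MulAut ↥Cfsg.Spor.M11 => e.symm (a (e x))) hm
      simp only [MulAut.conj_apply, map_mul, map_inv, e.symm_apply_apply, β, MulEquiv.trans_apply]
        at h1
      have h2 := congrArg Subtype.val h1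
      simpa [MulAut.conjNormal_apply] using h2.symm
    refine ⟨⟨⟨(e.symm m : G)⁻¹ * g, Subgroup.mem_centralizer_iff.2 fun x hx => ?_⟩, e.symm m⟩, ?_⟩
    · have h := hconj ⟨x, hx⟩
      calc x * ((e.symm m : G)⁻¹ * g)
          = (e.symm m : G)⁻¹ * ((e.symm m : G) * x * (e.symm m : G)⁻¹) * g := by group
        _ = (e.symm m : G)⁻¹ * (g * x * g⁻¹) * g := by rw [← h]
        _ = (e.symm m : G)⁻¹ * g * x := by group
    · show (e.symm m : G)⁻¹ * g * (e.symm m : G) = g
      have h := hconj (e.symm m)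
      rw [mul_inv_cancel_right, mul_inv_eq_iff_eq_mul] at h
      rw [mul_assoc, h, inv_mul_cancel_left]
  exact ⟨(MulEquiv.ofBijective Φ ⟨hinj, hsurj⟩).symm⟩

variable {G : Type u} [Group G] [Finite G]

/-- The subgroup generated by the elements of order eleven. -/
theorem exists_core (hG : Nat.card G = 95040) (h55 : ∃ χ : Cfsg.IrrCharacter G,
    55 ∣ Cfsg.charDegree (χ : G → ℂ)) :
    ∃ K : Subgroup G, K.Normal ∧ commutator K = ⊤ ∧ IsSimpleGroup (K ⧸ Subgroup.center K) ∧
      (Nat.card (K ⧸ Subgroup.center K) = 660 ∨ Nat.card (K ⧸ Subgroup.center K) = 7920 ∨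
        Nat.card (K ⧸ Subgroup.center K) = 95040) := by
  classical
  haveI hf : Fact (Nat.Prime 11) := ⟨by norm_num⟩
  obtain ⟨K, hK⟩ : ∃ K, K = Subgroup.closure {g : G | orderOf g = 11} := ⟨_, rfl⟩
  have hKn : K.Normal := by
    refine ⟨fun n hn a => ?_⟩
    have hle : K ≤ K.comap (MulAut.conj a).toMonoidHom := by
      conv_lhs => rw [hK]
      rw [Subgroup.closure_le]
      intro x hx
      show MulAut.conj a x ∈ K
      rw [hK]
      refine Subgroup.subset_closure ?_
      show orderOf (MulAut.conj a x) = 11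
      rw [MulEquiv.orderOf_eq]
      exact hx
    exact hle hn
  haveI := hKn
  have hgen : ∀ g : G, orderOf g = 11 → g ∈ K := fun g hg => hK ▸ Subgroup.subset_closure hg
  obtain ⟨g₀, hg₀⟩ := exists_prime_orderOf_dvd_card' (G := G) 11 (by rw [hG]; norm_num)
  have hK11 : 11 ∣ Nat.card K := hg₀ ▸ Subgroup.orderOf_dvd_natCard K (hgen g₀ hg₀)
  have hKd : Nat.card K ∣ 95040 := hG ▸ Subgroup.card_subgroup_dvd_card K
  -- the dichotomy
  have hdich : ∀ N : Subgroup K, N.Normal → N ≤ Subgroup.center K ∨ N = ⊤ := by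
    intro N hN
    by_cases h11 : 11 ∣ Nat.card N
    · right
      obtain ⟨x, hx⟩ := exists_prime_orderOf_dvd_card' 11 h11
      have hx' : orderOf (x : K) = 11 := by rw [Subgroup.orderOf_coe]; exact hx
      have hall : ∀ g : K, orderOf g = 11 → g ∈ N := by
        intro g hg
        have hsyl : ∀ a : K, orderOf a = 11 → ∃ P : Sylow 11 K, a ∈ (P : Subgroup K) ∧
            Subgroup.zpowers a = (P : Subgroup K) := by
          intro a ha
          obtain ⟨P, hP⟩ := (IsPGroup.of_card (p := 11) (n := 1)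
            (by rw [Nat.card_zpowers, ha, pow_one]) : IsPGroup 11 (Subgroup.zpowers a)).exists_le_sylow
          refine ⟨P, hP (Subgroup.mem_zpowers a), Subgroup.eq_of_le_of_card_ge hP ?_⟩
          rw [sylow_eleven_card hKd hK11 P, Nat.card_zpowers, ha]
        obtain ⟨P, -, hP⟩ := hsyl x hx'
        obtain ⟨Q, hgQ, -⟩ := hsyl g hg
        obtain ⟨a, ha⟩ := MulAction.exists_smul_eq K P Q
        rw [← ha, Sylow.coe_subgroup_smul] at hgQ
        obtain ⟨y, hy, rfl⟩ := hgQ
        exact hN.conj_mem y (Subgroup.zpowers_le.2 x.2 (hP ▸ hy)) a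
      rw [eq_top_iff]
      intro k _
      have hle : K ≤ N.map K.subtype := by
        conv_lhs => rw [hK]
        rw [Subgroup.closure_le]
        intro g hg
        exact ⟨⟨g, hgen g hg⟩, hall _ (by rw [Subgroup.orderOf_mk]; exact hg), rfl⟩
      obtain ⟨k', hk', he⟩ := hle k.2
      rwa [← Subtype.ext (he : (k' : G) = k)]
    · left
      intro n hn
      refine Subgroup.mem_center_iff.2 fun k => Subtype.ext ?_
      have hle : K ≤ Subgroup.centralizer ({(n : G)} : Set G) := by
        conv_lhs => rw [hK]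
        rw [Subgroup.closure_le]
        intro g hg
        refine Subgroup.mem_centralizer_singleton_iff.2 ?_
        haveI := hN
        exact congrArg Subtype.val (centralizes hKd N h11
          (g := ⟨g, hgen g hg⟩) (by rw [Subgroup.orderOf_mk]; exact hg) n hn)
      exact Subgroup.mem_centralizer_singleton_iff.1 (hle k.2)
  -- the core is not abelian
  have hna : Subgroup.center K ≠ ⊤ := by
    intro htop
    obtain ⟨χ, hχ⟩ := h55
    have hd := Blocks.NormalDefect.charDegree_dvd_index K (fun a ha b hb =>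
      congrArg Subtype.val (Subgroup.mem_center_iff.1
        (htop ▸ Subgroup.mem_top (⟨b, hb⟩ : K)) ⟨a, ha⟩)) χ
    have hi : 11 ∣ K.index := ((show 11 ∣ 55 by norm_num).trans hχ).trans hd
    have hm := Subgroup.card_mul_index K
    rw [hG] at hm
    have h2 : 11 * 11 ∣ 95040 := hm ▸ Nat.mul_dvd_mul hK11 hi
    norm_num at h2
  obtain ⟨hnt, hsimple⟩ : Nontrivial (K ⧸ Subgroup.center K) ∧
      ∀ H : Subgroup (K ⧸ Subgroup.center K), H.Normal → H = ⊥ ∨ H = ⊤ := by
    refine ⟨QuotientGroup.nontrivial_iff.2 hna, fun H hH => ?_⟩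
    have hs := QuotientGroup.mk'_surjective (Subgroup.center K)
    rcases hdich _ (hH.comap (QuotientGroup.mk' (Subgroup.center K))) with h | h
    · left
      rw [← Subgroup.map_comap_eq_self_of_surjective hs H, Subgroup.map_eq_bot_iff,
        QuotientGroup.ker_mk']
      exact h
    · right
      rw [← Subgroup.map_comap_eq_self_of_surjective hs H, h, ← MonoidHom.range_eq_map,
        MonoidHom.range_eq_top.2 hs]
  haveI hS : IsSimpleGroup (K ⧸ Subgroup.center K) := @IsSimpleGroup.mk _ _ hnt hsimple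
  have hSna : ¬ IsMulCommutative (K ⧸ Subgroup.center K) := by
    intro h
    haveI : IsCyclic (K ⧸ Subgroup.center K) := by
      letI : CommGroup (K ⧸ Subgroup.center K) :=
        { (inferInstance : Group (K ⧸ Subgroup.center K)) with mul_comm := h.is_comm.comm }
      infer_instance
    refine hna (eq_top_iff.2 fun a _ => Subgroup.mem_center_iff.2 fun b => ?_)
    exact commutative_of_cyclic_center_quotient (QuotientGroup.mk' (Subgroup.center K))
      (by rw [QuotientGroup.ker_mk']) b a
  have hperf : commutator K = ⊤ := by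
    refine (hdich _ inferInstance).resolve_left fun hle => hSna ⟨⟨fun a b => ?_⟩⟩
    obtain ⟨a, rfl⟩ := QuotientGroup.mk_surjective a
    obtain ⟨b, rfl⟩ := QuotientGroup.mk_surjective b
    rw [← QuotientGroup.mk_mul, ← QuotientGroup.mk_mul, QuotientGroup.eq]
    refine hle ?_
    rw [show (a * b)⁻¹ * (b * a) = ⁅b⁻¹, a⁻¹⁆ by rw [commutatorElement_def]; group]
    exact Subgroup.commutator_mem_commutator (Subgroup.mem_top _) (Subgroup.mem_top _)
  refine ⟨K, hKn, hperf, hS, simple_orders hSna ?_ ?_⟩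
  · exact (Subgroup.card_quotient_dvd_card _).trans hKd
  · rw [Subgroup.card_eq_card_quotient_mul_card_subgroup (Subgroup.center K)] at hK11
    refine (hf.out.dvd_mul.1 hK11).resolve_right fun h => hna ?_
    obtain ⟨z, hz⟩ := exists_prime_orderOf_dvd_card' 11 h
    have hz' : orderOf (z : K) = 11 := by rw [Subgroup.orderOf_coe]; exact hz
    rw [eq_top_iff]
    intro k _
    refine Subgroup.mem_center_iff.2 fun l => Subtype.ext ?_
    obtain ⟨P, hP⟩ := (IsPGroup.of_card (p := 11) (n := 1)
      (by rw [Nat.card_zpowers, hz', pow_one]) : IsPGroup 11 (Subgroup.zpowers (z : K))).exists_le_sylow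
    have hPz : Subgroup.zpowers (z : K) = (P : Subgroup K) := Subgroup.eq_of_le_of_card_ge hP (by
      rw [sylow_eleven_card hKd (hz' ▸ orderOf_dvd_natCard (z : K)) P, Nat.card_zpowers, hz'])
    have hle : K ≤ (Subgroup.center K).map K.subtype := by
      conv_lhs => rw [hK]
      rw [Subgroup.closure_le]
      intro g hg
      obtain ⟨Q, hQ⟩ := (IsPGroup.of_card (p := 11) (n := 1)
        (by rw [Nat.card_zpowers, Subgroup.orderOf_mk, hg, pow_one]) :
          IsPGroup 11 (Subgroup.zpowers (⟨g, hgen g hg⟩ : K))).exists_le_sylow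
      obtain ⟨a, ha⟩ := MulAction.exists_smul_eq K P Q
      have hgQ := hQ (Subgroup.mem_zpowers _)
      rw [← ha, Sylow.coe_subgroup_smul] at hgQ
      obtain ⟨y, hy, hya⟩ := hgQ
      refine ⟨⟨g, hgen g hg⟩, ?_, rfl⟩
      rw [← hya]
      exact (inferInstance : (Subgroup.center K).Normal).conj_mem y
        (Subgroup.zpowers_le.2 z.2 (hPz ▸ hy)) a
    obtain ⟨k', hk', he⟩ := hle k.2
    rw [← Subtype.ext (he : (k' : G) = k)]
    exact congrArg Subtype.val (Subgroup.mem_center_iff.1 hk' l)

theorem classify (hG : Nat.card G = 95040)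
    (h55 : ∃ χ : Cfsg.IrrCharacter G, 55 ∣ Cfsg.charDegree (χ : G → ℂ))
    (h33 : ∃ χ : Cfsg.IrrCharacter G, 33 ∣ Cfsg.charDegree (χ : G → ℂ)) :
    Nonempty (G ≃* ↥Cfsg.Spor.M12) ∨
      Nonempty (G ≃* alternatingGroup (Fin 4) × ↥Cfsg.Spor.M11) := by
  classical
  letI := Fintype.ofFinite G
  obtain ⟨K, hKn, hperf, hS, hcases⟩ := exists_core hG h55
  haveI := hKn
  haveI := hS
  letI := Fintype.ofFinite K
  letI := Fintype.ofFinite (K ⧸ Subgroup.center K)
  have hKc := Subgroup.card_eq_card_quotient_mul_card_subgroup (Subgroup.center K)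
  have hidx := Subgroup.card_mul_index K
  rw [hG, hKc] at hidx
  rcases hcases with h | h | h <;> rw [h] at hKc hidx
  · exfalso
    obtain ⟨χ, hχ⟩ := h55
    obtain ⟨θ, hθ⟩ := Char.exists_constituent_res (N := K) χ.2
    obtain ⟨k, hk, hki⟩ := ProjExt.exists_ratio_dvd_index χ.2 θ.2 hθ
    have hd : Cfsg.charDegree (χ : G → ℂ) = k * Cfsg.charDegree (θ : K → ℂ) := by
      refine Blocks.charDegree_eq ?_
      rw [hk, ← Blocks.charDegree_cast (Char.IsIrr.isCharacter θ.2)]
      push_cast; ring
    have hki144 : k ∣ 144 := hki.trans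
      ⟨Nat.card (Subgroup.center K), Nat.eq_of_mul_eq_mul_left (by norm_num : 0 < 660)
        (by linear_combination -hidx)⟩
    have h55θ : 55 ∣ Cfsg.charDegree (θ : K → ℂ) :=
      (Nat.Coprime.coprime_dvd_right hki144 (by norm_num : Nat.Coprime 55 144)).dvd_of_dvd_mul_left
        (hd ▸ hχ)
    have hle := CharArith.card_center_mul_sq_le θ.2
    rw [hKc] at hle
    have h2 : Cfsg.charDegree (θ : K → ℂ) ^ 2 ≤ 660 :=
      Nat.le_of_mul_le_mul_left (by rw [mul_comm _ 660]; exact hle) Nat.card_pos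
    have h3 := Nat.le_of_dvd (Blocks.charDegree_pos θ.2) h55θ
    nlinarith
  · right
    haveI := Compute.isSimpleGroup_m11
    letI := Fintype.ofFinite ↥Cfsg.Spor.M11
    obtain ⟨e₁⟩ := Fg24.M11.unique_7920 (H := ↥Cfsg.Spor.M11) h Compute.card_m11
    have hZ := center_eq_bot hperf e₁
    let e : K ≃* ↥Cfsg.Spor.M11 :=
      ((QuotientGroup.quotientBot.symm).trans (QuotientGroup.quotientMulEquivOfEq hZ.symm)).trans e₁
    obtain ⟨Φ⟩ := exists_factor K e hZ
    have hK79 : Nat.card K = 7920 := by rw [hKc, hZ, Subgroup.card_bot, mul_one]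
    have hC : Nat.card (Subgroup.centralizer (K : Set G)) = 12 := by
      have := Nat.card_congr Φ.toEquiv
      rw [Nat.card_prod, hG, hK79] at this
      omega
    haveI : IsSimpleGroup K := by
      haveI : Nontrivial K := e.toEquiv.nontrivial
      exact IsSimpleGroup.isSimpleGroup_of_surjective e.symm.toMonoidHom e.symm.surjective
    obtain ⟨χ, hχ⟩ := h33
    obtain ⟨α, β, hαβ⟩ := Zassenhaus.exists_prodIrr Φ χ
    have hd : Cfsg.charDegree (χ : G → ℂ) =
        Cfsg.charDegree (α : Subgroup.centralizer (K : Set G) → ℂ) * Cfsg.charDegree (β : K → ℂ) := by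
      refine Blocks.charDegree_eq ?_
      rw [← hαβ]
      show (α : Subgroup.centralizer (K : Set G) → ℂ) (Φ 1).1 * (β : K → ℂ) (Φ 1).2 = _
      rw [map_one, Prod.fst_one, Prod.snd_one,
        ← Blocks.charDegree_cast (Char.IsIrr.isCharacter α.2),
        ← Blocks.charDegree_cast (Char.IsIrr.isCharacter β.2)]
      push_cast; rfl
    have hb : Cfsg.charDegree (β : K → ℂ) ∈ [1, 10, 11, 16, 44, 45, 55] := by
      by_contra hn
      simp only [List.mem_cons, List.not_mem_nil, or_false, not_or] at hn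
      have hc := Fg24.M11.deg_count hK79 (Cfsg.charDegree (β : K → ℂ))
      rw [if_neg (by omega), if_neg (by omega), if_neg (by omega)] at hc
      haveI : Nonempty {ψ : Cfsg.IrrCharacter K //
          Fg24.M11.deg ψ = Cfsg.charDegree (β : K → ℂ)} := ⟨⟨β, rfl⟩⟩
      exact Nat.card_pos.ne' hc
    have ha : Cfsg.charDegree (α : Subgroup.centralizer (K : Set G) → ℂ) ∣ 12 ∧ Cfsg.charDegree (α : Subgroup.centralizer (K : Set G) → ℂ) ≤ 3 := by
      refine ⟨hC ▸ Char.IsIrr.degree_dvd_card α.2
        (Blocks.charDegree_cast (Char.IsIrr.isCharacter α.2)).symm, ?_⟩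
      by_contra hlt
      push Not at hlt
      have h1 := CharArith.card_center_mul_sq_le α.2
      rw [hC] at h1
      have h2 : Cfsg.charDegree (α : Subgroup.centralizer (K : Set G) → ℂ) ^ 2 ≤ 12 :=
        (Nat.le_mul_of_pos_left _ Nat.card_pos).trans h1
      nlinarith
    have ha3 : Cfsg.charDegree (α : Subgroup.centralizer (K : Set G) → ℂ) = 3 := by
      rw [hd] at hχ
      obtain ⟨-, hle⟩ := ha
      have hpos := Blocks.charDegree_pos α.2
      simp only [List.mem_cons, List.not_mem_nil, or_false] at hb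
      interval_cases h : Cfsg.charDegree (α : Subgroup.centralizer (K : Set G) → ℂ) <;>
        rcases hb with hb | hb | hb | hb | hb | hb | hb <;> rw [hb] at hχ <;> first | rfl | norm_num at hχ
    obtain ⟨a⟩ := iso_alt_four hC α ha3
    exact ⟨Φ.trans (MulEquiv.prodCongr a e)⟩
  · left
    have h1 : Nat.card (Subgroup.center K) * K.index = 1 :=
      Nat.eq_of_mul_eq_mul_left (by norm_num : 0 < 95040)
        (by rw [mul_one, ← mul_assoc]; exact hidx)
    have hZ : Subgroup.center K = ⊥ := Subgroup.eq_bot_of_card_eq _ (Nat.eq_one_of_mul_eq_one_right h1)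
    have hK : K = ⊤ := Subgroup.index_eq_one.1 (Nat.eq_one_of_mul_eq_one_left h1)
    let e : G ≃* K ⧸ Subgroup.center K :=
      ((Subgroup.topEquiv.symm.trans (MulEquiv.subgroupCongr hK.symm)).trans
        QuotientGroup.quotientBot.symm).trans (QuotientGroup.quotientMulEquivOfEq hZ.symm)
    haveI := Compute.isSimpleGroup_m12
    letI := Fintype.ofFinite ↥Cfsg.Spor.M12
    obtain ⟨f⟩ := Fg24.M12.unique_95040 (K := ↥Cfsg.Spor.M12) h Compute.card_m12
    exact ⟨e.trans f⟩

end Cfsg.Agent.M12Graph
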