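import Cfsg.Agent.M12Graph.Local
import Cfsg.Agent.M12Graph.Kill
import Cfsg.Agent.SmallOrder.Below6000

/-!
# Simple groups whose order divides 95040 and is divisible by eleven
-/

set_option autoImplicit false
set_option linter.unusedSectionVars false

namespace Cfsg.Agent.M12Graph

open Cfsg.Agent

universe u

set_option synthInstance.maxSize 4000 in
theorem count_sylow : ∀ n ∈ Nat.divisors 1728, n % 11 = 1 → n ≠ 1 → n = 12 ∨ n = 144 ∨ n = 1728 := by
  decide +kernel

theorem divisors_twelve : ∀ c ∈ Nat.divisors 12,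
    c = 1 ∨ c = 2 ∨ c = 3 ∨ c = 4 ∨ c = 6 ∨ c = 12 := by
  decide +kernel

variable {S : Type u} [Group S]

theorem mem_normalizer_zpowers {N : Subgroup S} {y : S}
    (hN : ∀ n ∈ N, n * y * n⁻¹ ∈ Subgroup.zpowers y) :
    N ≤ Subgroup.normalizer (Subgroup.zpowers y : Set S) := by
  have hfwd : ∀ n ∈ N, ∀ h ∈ Subgroup.zpowers y, n * h * n⁻¹ ∈ Subgroup.zpowers y := by
    rintro n hn h ⟨i, rfl⟩
    show n * y ^ i * n⁻¹ ∈ _
    rw [← conj_zpow]
    exact zpow_mem (hN n hn) i
  intro n hn
  refine Subgroup.mem_normalizer_iff.2 fun h => ⟨hfwd n hn h, fun hh => ?_⟩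
  have := hfwd n⁻¹ (inv_mem hn) _ hh
  rwa [inv_inv, show n⁻¹ * (n * h * n⁻¹) * n = h by group] at this

variable [Finite S]

theorem relIndex_lt {N : Subgroup S} {y : S} {q : ℕ} (hq : q = 2 ∨ q = 3) (hy : orderOf y = q)
    (hN : ∀ n ∈ N, n * y * n⁻¹ ∈ Subgroup.zpowers y) :
    (Subgroup.centralizer ({y} : Set S)).relIndex N < q := by
  have hp : q.Prime := by rcases hq with rfl | rfl <;> norm_num
  have hcent : Subgroup.centralizer ((Subgroup.zpowers y : Subgroup S) : Set S) =
      Subgroup.centralizer ({y} : Set S) := by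
    rw [Subgroup.zpowers_eq_closure, Subgroup.centralizer_closure]
  refine lt_of_le_of_lt ((Subgroup.relIndex_le_of_le_right (mem_normalizer_zpowers hN)
    Subgroup.index_ne_zero_of_finite)) ?_
  rw [← hcent]
  have hker := Subgroup.normalizerMonoidHom_ker (Subgroup.zpowers y)
  show ((Subgroup.centralizer ((Subgroup.zpowers y : Subgroup S) : Set S)).subgroupOf _).index < q
  rw [← hker, Subgroup.index_ker]
  haveI : Fact q.Prime := ⟨hp⟩
  haveI : Finite (MulAut (Subgroup.zpowers y)) :=
    Finite.of_injective (fun f => f.toEquiv) fun a b h => MulEquiv.ext fun x =>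
      congrFun (congrArg DFunLike.coe h) x
  refine lt_of_le_of_lt (Nat.card_le_card_of_injective _ Subtype.val_injective) ?_
  haveI : IsCyclic (Subgroup.zpowers y) := inferInstance
  rw [Nat.card_congr (IsCyclic.mulAutMulEquiv (Subgroup.zpowers y)).toEquiv, Nat.card_zpowers, hy,
    Nat.card_eq_fintype_card, ZMod.card_units_eq_totient, Nat.totient_prime hp]
  have := hp.two_le
  omega

variable [IsSimpleGroup S]

theorem simple_orders (hna : ¬ IsMulCommutative S) (hG : Nat.card S ∣ 95040)
    (h11 : 11 ∣ Nat.card S) :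
    Nat.card S = 660 ∨ Nat.card S = 7920 ∨ Nat.card S = 95040 := by
  classical
  letI := Fintype.ofFinite S
  haveI hf : Fact (Nat.Prime 11) := ⟨by norm_num⟩
  obtain ⟨P⟩ : Nonempty (Sylow 11 S) := inferInstance
  obtain ⟨e, he'⟩ : ∃ e, e = (Subgroup.centralizer (P : Set S)).relIndex
    (Subgroup.normalizer (P : Set S)) := ⟨_, rfl⟩
  have hS : BlockThms.OrderP.Setup P e := ⟨sylow_eleven_card hG h11 P, he'.symm⟩
  have hlt : 11 < Nat.card S := by
    rcases (Nat.le_of_dvd Nat.card_pos h11).lt_or_eq with h | h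
    · exact h
    · exfalso
      haveI : IsCyclic S := isCyclic_of_prime_card h.symm
      exact hna ⟨⟨fun a b => mul_comm' a b⟩⟩
  have he1 := S4429.e_ne_one hS hlt
  obtain ⟨K, hKC, hK11, hKmem, hKn, hCK, hCdec⟩ := hS.exists_complement
  obtain ⟨n, hn⟩ : ∃ n, n = Nat.card (Sylow 11 S) := ⟨_, rfl⟩
  obtain ⟨c, hc⟩ : ∃ c, c = Nat.card K := ⟨_, rfl⟩
  have hN : Nat.card (Subgroup.normalizer (P : Set S)) = e * (11 * c) := by
    rw [hS.card_normalizer, hCK, hc]
  have hm : Nat.card S = 11 * (n * (e * c)) := by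
    have h := SmallOrder.card_sylow_mul_card_normalizer P
    rw [show Subgroup.normalizer ((P : Subgroup S) : Set S) = Subgroup.normalizer (P : Set S) from
      rfl, hN, ← hn] at h
    rw [← h]; ring
  have hd : n * (e * c) ∣ 8640 :=
    Nat.dvd_of_mul_dvd_mul_left (by norm_num : 0 < 11) (hm ▸ hG : 11 * (n * (e * c)) ∣ 11 * 8640)
  have he10 : e ∣ 10 := hS.exists_y.1
  have hcases : e = 5 ∨ e = 10 := by
    have h1 := Nat.le_of_dvd (by norm_num) he10
    have h0 := hS.e_pos
    have h2 : e ≠ 2 := fun h => not_two hS hna hG h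
    interval_cases e <;> omega
  have hn1 : n ≠ 1 := hn ▸ SmallOrder.card_sylow_ne_one hna h11
  have hnd : n ∣ 1728 := by
    refine Nat.dvd_of_mul_dvd_mul_right (by norm_num : 0 < 5) ?_
    refine (mul_dvd_mul_left n ?_).trans hd
    exact Dvd.dvd.mul_right (by rcases hcases with rfl | rfl <;> norm_num) c
  have hc0 : 0 < c := hc ▸ Nat.card_pos
  have hyC : ∀ y : K, (y : S) ∈ Subgroup.centralizer (P : Set S) := fun y => hKC y.2
  rcases count_sylow n (Nat.mem_divisors.2 ⟨hnd, by norm_num⟩)
    (hn ▸ SmallOrder.card_sylow_mod 11) hn1 with h | h | h <;> rw [h] at hd hm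
  · -- twelve
    have hc1 : c = 1 := by
      by_contra hne
      obtain ⟨q, hq, hqd⟩ := Nat.exists_prime_and_dvd hne
      rw [hc] at hqd
      haveI : Fact q.Prime := ⟨hq⟩
      obtain ⟨y, hy⟩ := exists_prime_orderOf_dvd_card' q hqd
      exact eq_one_of_twelve hS (hn.symm.trans h) hq (fun e => hK11 (e ▸ hqd))
        (by rw [Subgroup.orderOf_coe]; exact hy) (hyC y)
    have hlt6 : Nat.card S < 6000 := by rw [hm, hc1]; rcases hcases with rfl | rfl <;> norm_num
    have hlist := SmallOrder.card_of_lt_6000 hna hlt6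
    rw [hm, hc1] at hlist ⊢
    rcases hcases with rfl | rfl
    · left; norm_num
    · norm_num at hlist
  · -- 144
    have hd60 : e * c ∣ 60 := Nat.dvd_of_mul_dvd_mul_left (by norm_num : 0 < 144) hd
    have hc12 : c ∣ 12 := by
      refine Nat.dvd_of_mul_dvd_mul_left (by norm_num : 0 < 5) ((mul_dvd_mul_right ?_ c).trans hd60)
      rcases hcases with rfl | rfl <;> norm_num
    have h144 : Nat.card (Sylow 11 S) = 144 := hn.symm.trans h
    have hnorm3 : ∀ {y : S}, orderOf y = 3 → ∀ Q : Sylow 11 S,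
        y ∈ Subgroup.normalizer ((Q : Subgroup S) : Set S) →
        y ∈ Subgroup.centralizer ((Q : Subgroup S) : Set S) := by
      intro y hy Q hQ
      haveI : Fact (Nat.Prime 3) := ⟨Nat.prime_three⟩
      refine SmallOrder.mem_centralizer_of_order hQ hy fun d hdd hmod => ?_
      rw [sylow_eleven_card hG h11 Q] at hdd hmod ⊢
      rcases (Nat.dvd_prime hf.out).1 hdd with rfl | rfl
      · norm_num [Nat.ModEq] at hmod
      · rfl
    have hnorm2 : e = 5 → ∀ {y : S}, orderOf y = 2 → ∀ Q : Sylow 11 S,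
        y ∈ Subgroup.normalizer ((Q : Subgroup S) : Set S) →
        y ∈ Subgroup.centralizer ((Q : Subgroup S) : Set S) := by
      intro he5 y hy Q hQ
      obtain ⟨a, rfl⟩ := MulAction.exists_smul_eq S P Q
      have hy' : a⁻¹ * y * a ∈ Subgroup.normalizer ((P : Subgroup S) : Set S) := by
        refine Sylow.smul_eq_iff_mem_normalizer.1 ?_
        rw [mul_smul, mul_smul, Sylow.smul_eq_iff_mem_normalizer.2 hQ, inv_smul_smul]
      haveI : ((Subgroup.centralizer ((P : Subgroup S) : Set S)).subgroupOf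
          (Subgroup.normalizer ((P : Subgroup S) : Set S))).Normal := by
        rw [← Subgroup.normalizerMonoidHom_ker]; exact MonoidHom.normal_ker _
      have h5 := Subgroup.pow_index_mem ((Subgroup.centralizer ((P : Subgroup S) : Set S)).subgroupOf
          (Subgroup.normalizer ((P : Subgroup S) : Set S))) ⟨_, hy'⟩
      have hidx : ((Subgroup.centralizer ((P : Subgroup S) : Set S)).subgroupOf
          (Subgroup.normalizer ((P : Subgroup S) : Set S))).index = 5 := by
        rw [← he5]; exact hS.rel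
      rw [hidx, Subgroup.mem_subgroupOf] at h5
      have ho : orderOf (a⁻¹ * y * a) = 2 := by
        have := Blocks.orderOf_conj' y a⁻¹
        rw [inv_inv] at this
        rw [this, hy]
      have hpow : (a⁻¹ * y * a) ^ 5 = a⁻¹ * y * a := by
        rw [← pow_mod_orderOf, ho]; simp
      have h5' : a⁻¹ * y * a ∈ Subgroup.centralizer ((P : Subgroup S) : Set S) := by
        simpa [hpow] using h5
      refine Subgroup.mem_centralizer_iff.2 fun b hb => ?_
      change b ∈ ((a • P : Sylow 11 S) : Subgroup S) at hb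
      rw [Sylow.coe_subgroup_smul] at hb
      obtain ⟨b', hb', rfl⟩ := hb
      have h6 := Subgroup.mem_centralizer_iff.1 h5' b' hb'
      show a * b' * a⁻¹ * y = y * (a * b' * a⁻¹)
      calc a * b' * a⁻¹ * y = a * (b' * (a⁻¹ * y * a)) * a⁻¹ := by group
        _ = a * (a⁻¹ * y * a * b') * a⁻¹ := by rw [h6]
        _ = y * (a * b' * a⁻¹) := by group
    have hzp : ∀ {y : K} {q : ℕ}, orderOf y = q → (∀ k : K, orderOf k = q → k ∈ Subgroup.zpowers y) →
        ∀ g ∈ Subgroup.normalizer (P : Set S),
          g * (y : S) * g⁻¹ ∈ Subgroup.zpowers (y : S) := by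
      intro y q hy hu g hg
      have h1 := hu ⟨_, hKn g hg y y.2⟩
        (by rw [Subgroup.orderOf_mk, Blocks.orderOf_conj', Subgroup.orderOf_coe, hy])
      obtain ⟨i, hi⟩ := h1
      exact ⟨i, by simpa using congrArg Subtype.val hi⟩
    have hprime : ∀ q : ℕ, q.Prime → c = q → ∀ y : K, orderOf y = q →
        ∀ k : K, k ∈ Subgroup.zpowers y := by
      intro q hq hcq y hy k
      rw [Subgroup.eq_top_of_card_eq (Subgroup.zpowers y) (by rw [Nat.card_zpowers, hy, ← hcq, hc])]
      exact Subgroup.mem_top k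
    rcases divisors_twelve c (Nat.mem_divisors.2 ⟨hc12, by norm_num⟩) with rfl | rfl | rfl | rfl |
      rfl | rfl
    · -- a self-centralising Sylow subgroup
      rcases hcases with rfl | rfl
      · right; left; rw [hm]
      · exfalso
        exact not_ten_one hS hna rfl (by rw [hm]) (by rw [hCK, ← hc])
    · -- two
      haveI : Fact (Nat.Prime 2) := ⟨Nat.prime_two⟩
      obtain ⟨y, hy⟩ := exists_prime_orderOf_dvd_card' 2 (hc ▸ dvd_rfl : 2 ∣ Nat.card K)
      have hyS : orderOf (y : S) = 2 := by rw [Subgroup.orderOf_coe]; exact hy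
      exfalso
      rcases hcases with rfl | rfl
      · exact eq_one_of_144 hS h144 (Or.inl rfl) hyS (hyC y) (hnorm2 rfl hyS)
          (relIndex_lt (Or.inl rfl) hyS
            (hzp hy fun k _ => hprime 2 Nat.prime_two rfl y hy k))
      · exact not_ten_two hS hna rfl (by rw [hm]) (hyC y) hyS
    · -- three
      haveI : Fact (Nat.Prime 3) := ⟨Nat.prime_three⟩
      obtain ⟨y, hy⟩ := exists_prime_orderOf_dvd_card' 3 (hc ▸ dvd_rfl : 3 ∣ Nat.card K)
      have hyS : orderOf (y : S) = 3 := by rw [Subgroup.orderOf_coe]; exact hy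
      exfalso
      exact eq_one_of_144 hS h144 (Or.inr rfl) hyS (hyC y) (hnorm3 hyS)
        (relIndex_lt (Or.inr rfl) hyS (hzp hy fun k _ => hprime 3 Nat.prime_three rfl y hy k))
    · -- four
      exfalso
      obtain rfl : e = 5 := by
        rcases hcases with rfl | rfl
        · rfl
        · norm_num at hd60
      haveI : Fact (Nat.Prime 2) := ⟨Nat.prime_two⟩
      obtain ⟨y, hy⟩ := exists_prime_orderOf_dvd_card' 2 (hc ▸ (by norm_num) : 2 ∣ Nat.card K)
      have hyS : orderOf (y : S) = 2 := by rw [Subgroup.orderOf_coe]; exact hy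
      have hab : ∀ a b : K, a * b = b * a :=
        IsPGroup.commutative_of_card_eq_prime_sq (p := 2) (by rw [← hc]; norm_num)
      have hle : Subgroup.centralizer (P : Set S) ≤ Subgroup.centralizer ({(y : S)} : Set S) := by
        intro x hx
        obtain ⟨a, ha, b, hb, rfl⟩ := hCdec x hx
        refine mul_mem (Subgroup.mem_centralizer_singleton_iff.2 ?_)
          (Subgroup.mem_centralizer_singleton_iff.2 ?_)
        · exact congrArg Subtype.val (hab ⟨b, hb⟩ y)
        · exact Subgroup.mem_centralizer_iff.1 (hyC y) a ha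
      obtain ⟨N, hN'⟩ : ∃ N, N = Subgroup.normalizer (P : Set S) := ⟨_, rfl⟩
      have hr : (Subgroup.centralizer ({(y : S)} : Set S)).relIndex N ∣ 5 :=
        hN' ▸ hS.rel ▸ Subgroup.relIndex_dvd_of_le_left _ hle
      refine eq_one_of_144 hS h144 (Or.inl rfl) hyS (hyC y) (hnorm2 rfl hyS) ?_
      rw [← hN']
      rcases (Nat.dvd_prime Nat.prime_five).1 hr with h5 | h5
      · omega
      exfalso
      haveI : Fact (Nat.Prime 5) := ⟨Nat.prime_five⟩
      obtain ⟨⟨g, hgN⟩, hg⟩ := exists_prime_orderOf_dvd_card' (G := Subgroup.normalizer (P : Set S)) 5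
        (by rw [hN]; norm_num)
      rw [Subgroup.orderOf_mk] at hg
      have hgK : g ∈ Subgroup.centralizer (K : Set S) := by
        refine SmallOrder.mem_centralizer_of_order ?_ hg fun d hdd hmod => ?_
        · refine Subgroup.mem_normalizer_iff.2 fun x => ⟨hKn g hgN x, fun hx => ?_⟩
          have := hKn g⁻¹ (inv_mem hgN) _ hx
          rwa [inv_inv, show g⁻¹ * (g * x * g⁻¹) * g = x by group] at this
        · rw [← hc] at hdd hmod ⊢
          have := Nat.le_of_dvd (by norm_num) hdd
          rw [Nat.ModEq] at hmod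
          omega
      have hgy : g ∈ Subgroup.centralizer ({(y : S)} : Set S) :=
        Subgroup.mem_centralizer_singleton_iff.2 (Subgroup.mem_centralizer_iff.1 hgK y y.2).symm
      have hmul : Nat.card (Subgroup.centralizer ({(y : S)} : Set S) ⊓ N : Subgroup S) * 5 =
          Nat.card N := by
        rw [← Subgroup.card_mul_index ((Subgroup.centralizer ({(y : S)} : Set S)).subgroupOf N)]
        congr 1
        · rw [← Nat.card_congr (Subgroup.subgroupOfEquivOfLe
            (inf_le_right : Subgroup.centralizer ({(y : S)} : Set S) ⊓ N ≤ N)).toEquiv,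
            Subgroup.inf_subgroupOf_right]
        · exact h5.symm
      rw [show Nat.card N = Nat.card (Subgroup.normalizer (P : Set S)) by rw [hN'], hN] at hmul
      have heq : Subgroup.centralizer (P : Set S) =
          Subgroup.centralizer ({(y : S)} : Set S) ⊓ N :=
        Subgroup.eq_of_le_of_card_ge (le_inf hle (hN' ▸ Subgroup.centralizer_le_normalizer _))
          (by rw [hCK, ← hc]; omega)
      have hgC : g ∈ Subgroup.centralizer (P : Set S) := heq ▸ ⟨hgy, hN' ▸ hgN⟩
      have h5d := Subgroup.orderOf_dvd_natCard _ hgC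
      rw [hg, hCK, ← hc] at h5d
      norm_num at h5d
    · -- six
      haveI : Fact (Nat.Prime 3) := ⟨Nat.prime_three⟩
      obtain ⟨y, hy⟩ := exists_prime_orderOf_dvd_card' 3 (hc ▸ (by norm_num) : 3 ∣ Nat.card K)
      have hyS : orderOf (y : S) = 3 := by rw [Subgroup.orderOf_coe]; exact hy
      have hK6 : Nat.card K = 3 ^ 1 * 2 := by rw [← hc]; norm_num
      have hs : Nat.card (Sylow 3 K) = 1 := by
        have h1 := SmallOrder.card_sylow_dvd hK6 (by norm_num)
        have h2 := SmallOrder.card_sylow_mod (G := K) 3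
        have h3 := Nat.le_of_dvd (by norm_num) h1
        omega
      obtain ⟨hsub, -⟩ := Nat.card_eq_one_iff_unique.1 hs
      have hu : ∀ k : K, orderOf k = 3 → k ∈ Subgroup.zpowers y := by
        intro k hk
        obtain ⟨Q1, h1⟩ := (IsPGroup.of_card (p := 3) (n := 1)
          (by rw [Nat.card_zpowers, hy, pow_one]) : IsPGroup 3 (Subgroup.zpowers y)).exists_le_sylow
        obtain ⟨Q2, h2⟩ := (IsPGroup.of_card (p := 3) (n := 1)
          (by rw [Nat.card_zpowers, hk, pow_one]) : IsPGroup 3 (Subgroup.zpowers k)).exists_le_sylow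
        rw [Subsingleton.elim Q2 Q1] at h2
        have hQ : Subgroup.zpowers y = (Q1 : Subgroup K) := Subgroup.eq_of_le_of_card_ge h1
          (by rw [SmallOrder.card_sylow_eq_pow hK6 (by norm_num) Q1, Nat.card_zpowers, hy, pow_one])
        exact hQ ▸ h2 (Subgroup.mem_zpowers k)
      exfalso
      exact eq_one_of_144 hS h144 (Or.inr rfl) hyS (hyC y) (hnorm3 hyS)
        (relIndex_lt (Or.inr rfl) hyS (hzp hy hu))
    · -- twelve
      right; right
      rcases hcases with rfl | rfl
      · rw [hm]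
      · norm_num at hd60
  · -- 1728
    right; right
    have hd5 : e * c ∣ 5 := Nat.dvd_of_mul_dvd_mul_left (by norm_num : 0 < 1728) hd
    have h1 := Nat.le_of_dvd (by norm_num) hd5
    have hec : e * c = 5 := by
      rcases (Nat.dvd_prime Nat.prime_five).1 hd5 with h' | h'
      · exfalso; rcases hcases with rfl | rfl <;> omega
      · exact h'
    rw [hm, hec]

end Cfsg.Agent.M12Graph
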